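import Cfsg.Agent.Lib.Helper88.GoingUp
import Cfsg.Agent.Lib.Helper87.FusionGroup
import Cfsg.Agent.Lib.Helper87.StronglyClosed
import Cfsg.Agent.Lib.Helper87.NormalSubgroupSystem
import Cfsg.Agent.Lib.Helper86.FusionSatEquiv
import Cfsg.Agent.S5076

/-!
# A group-theoretic criterion for the simplicity of `F_S(G)`

`GenHyp p Z S`: `S ≠ 1`, `S` has no proper nontrivial subgroup closed under `G`-fusion, and `N_G(S)` is
generated by elements `h` lying, for some `R ⊴ S` with `C_G(R) ≤ R Z`, in the subgroup generated by the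
`p`-elements of `N_G(R)`.  With `Z = 1` and `S` Sylow this gives simplicity of the fusion system;
the hypothesis passes to quotients by central `p'`-subgroups `Z`.
-/

set_option autoImplicit false

namespace Cfsg.Agent.Lib.Helper89

open Cfsg Cfsg.FusionSystem Cfsg.Agent.Lib.Helper87

variable {G : Type*} [Group G]

/-- The generators allowed for `N_G(S)`. -/
def pGenSet (p : ℕ) (Z S : Subgroup G) : Set G :=
  {h | h ∈ Subgroup.normalizer (S : Set G) ∧ ∃ R : Subgroup G, R ≤ S ∧
    S ≤ Subgroup.normalizer (R : Set G) ∧ Subgroup.centralizer (R : Set G) ≤ R ⊔ Z ∧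
    h ∈ Subgroup.closure {x : G | x ∈ Subgroup.normalizer (R : Set G) ∧ ∃ k : ℕ, x ^ p ^ k = 1}}

structure GenHyp (p : ℕ) (Z S : Subgroup G) : Prop where
  ne_bot : S ≠ ⊥
  closed : ∀ T : Subgroup G, T ≤ S → T ≠ ⊥ →
    (∀ x ∈ T, ∀ g : G, g * x * g⁻¹ ∈ S → g * x * g⁻¹ ∈ T) → T = S
  gen : Subgroup.normalizer (S : Set G) ≤ Subgroup.closure (pGenSet p Z S)

theorem nmh_mem_autGroup_iff {S : Subgroup G} (E : FusionSystem S) {R : Subgroup G} (hR : R ≤ S)
    {g : G} (hg : g ∈ Subgroup.normalizer (R : Set G)) :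
    R.normalizerMonoidHom ⟨g, hg⟩ ∈ E.autGroup R ↔ Mor E R (fun x => g * x * g⁻¹) := by
  rw [mem_autGroup_iff E hR]
  constructor
  · intro h
    refine h.congr (fun x hx => ?_)
    rw [autFun_apply _ hx]
    rfl
  · intro h
    refine h.congr (fun x hx => ?_)
    rw [autFun_apply _ hx]
    rfl

theorem group_closed_of_stronglyClosed {S T : Subgroup G}
    (hT : (groupFusionSystem S).StronglyClosed T) {x : G} (hx : x ∈ T) (g : G)
    (hg : g * x * g⁻¹ ∈ S) : g * x * g⁻¹ ∈ T := by
  have hle : Subgroup.zpowers x ≤ S := by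
    rw [Subgroup.zpowers_le]
    exact hT.1 hx
  have hm : Mor (groupFusionSystem S) (Subgroup.zpowers x) (fun y => g * y * g⁻¹) := by
    refine mor_group_conj g hle ?_
    rw [cj_le_iff]
    rintro y ⟨k, rfl⟩
    have : g * x ^ k * g⁻¹ = (g * x * g⁻¹) ^ k := by
      rw [conj_zpow]
    show g * x ^ k * g⁻¹ ∈ S
    rw [this]
    exact S.zpow_mem hg k
  exact StronglyClosed.map_mem hT hm (Subgroup.mem_zpowers x) hx

theorem isCentric_group_of_centralizer_le {S R : Subgroup G} (hR : R ≤ S)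
    (hC : Subgroup.centralizer (R : Set G) ≤ R) : (groupFusionSystem S).IsCentric R := by
  refine ⟨hR, fun Q hQ => ?_⟩
  obtain ⟨-, -, g, rfl⟩ := (isConj_group_iff S R Q).1 hQ
  intro x hx
  have h1 : x ∈ Subgroup.centralizer ((cj g R : Subgroup G) : Set G) := hx.2
  rw [cj_centralizer] at h1
  exact cj_mono hC h1

theorem simple_of_genHyp [Finite G] {p : ℕ} [Fact p.Prime] (S : Sylow p G)
    (h : GenHyp p ⊥ (S : Subgroup G)) : (groupFusionSystem (S : Subgroup G)).IsSimple p := by
  have hF := Cfsg.Agent.S5076.result p S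
  have hS : IsPGroup p (S : Subgroup G) := S.2
  refine ⟨hF, h.ne_bot, ?_⟩
  intro T E hE
  obtain ⟨⟨hEs, -, hinv⟩, -⟩ := hE
  have hTsc := hinv.2.1
  by_cases hT : T = ⊥
  · exact Or.inl hT
  right
  have hTS : T = S := h.closed T hTsc.1 hT
    (fun x hx g hg => group_closed_of_stronglyClosed hTsc hx g hg)
  refine ⟨hTS, ?_⟩
  subst hTS
  refine Helper88.hom_eq_of_autGroup_le hinv ?_
  -- the subgroup of `N_G(S)` inducing maps of `E`
  have key : ∀ g ∈ Subgroup.normalizer ((S : Subgroup G) : Set G),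
      Mor E (S : Subgroup G) (fun x => g * x * g⁻¹) := by
    let X : Subgroup G := ((E.autGroup (S : Subgroup G)).comap
      (S : Subgroup G).normalizerMonoidHom).map (Subgroup.normalizer ((S : Subgroup G) : Set G)).subtype
    have hX : ∀ g, g ∈ X → Mor E (S : Subgroup G) (fun x => g * x * g⁻¹) := by
      rintro _ ⟨⟨g, hg⟩, hg', rfl⟩
      exact (nmh_mem_autGroup_iff E le_rfl hg).1 hg'
    have hgen : Subgroup.closure (pGenSet p ⊥ (S : Subgroup G)) ≤ X := by
      rw [Subgroup.closure_le]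
      rintro t ⟨htN, R, hRS, hSR, hC, ht⟩
      rw [sup_bot_eq] at hC
      have hcen := isCentric_group_of_centralizer_le hRS hC
      have hfn : (groupFusionSystem (S : Subgroup G)).IsFullyNormalized R := by
        refine ⟨hRS, fun Q _ => ?_⟩
        have h1 : normalizerIn (S : Subgroup G) R = S := inf_eq_left.2 hSR
        rw [h1]
        exact Subgroup.card_le_of_le (normalizerIn_le _ Q)
      have hfa := Helper86.sat_fullyAutomized_of_fullyNormalized hS _ hF hfn
      let Y : Subgroup G := ((E.autGroup R).comap R.normalizerMonoidHom).map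
        (Subgroup.normalizer (R : Set G)).subtype
      have hY : Subgroup.closure {x : G | x ∈ Subgroup.normalizer (R : Set G) ∧
          ∃ k : ℕ, x ^ p ^ k = 1} ≤ Y := by
        rw [Subgroup.closure_le]
        rintro x ⟨hxN, k, hk⟩
        refine ⟨⟨x, hxN⟩, ?_, rfl⟩
        show R.normalizerMonoidHom ⟨x, hxN⟩ ∈ E.autGroup R
        refine Helper88.pElement_mem_autGroup hinv hfa ?_ ⟨k, ?_⟩
        · rw [nmh_mem_autGroup_iff _ hRS hxN]
          refine mor_group_conj x hRS ?_
          rw [cj_eq_self_of_mem_normalizer hxN]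
          exact hRS
        · rw [← map_pow]
          have : (⟨x, hxN⟩ : Subgroup.normalizer (R : Set G)) ^ p ^ k = 1 := Subtype.ext hk
          rw [this, map_one]
      obtain ⟨⟨t', ht'N⟩, ht', rfl⟩ := hY ht
      replace htN : t' ∈ Subgroup.normalizer ((S : Subgroup G) : Set G) := htN
      have hRa : Mor E R (fun x => t' * x * t'⁻¹) := (nmh_mem_autGroup_iff E hRS ht'N).1 ht'
      have hiso : Iso (groupFusionSystem (S : Subgroup G)) (S : Subgroup G) (S : Subgroup G)
          (fun x => t' * x * t'⁻¹) := by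
        have := iso_group_conj (S := (S : Subgroup G)) (P := (S : Subgroup G)) t' le_rfl
          (by rw [cj_eq_self_of_mem_normalizer htN])
        rwa [cj_eq_self_of_mem_normalizer htN] at this
      have htop := Helper88.mor_top_of_centric hS hEs hF hinv.1 hiso hcen hRa
      exact ⟨⟨t', htN⟩, (nmh_mem_autGroup_iff E le_rfl htN).2 htop, rfl⟩
    intro g hg
    exact hX g (hgen (h.gen hg))
  intro α hα
  rw [mem_autGroup_iff _ le_rfl] at hα ⊢
  obtain ⟨-, g, hg⟩ := (mor_group_iff _ _ _).1 hα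
  have hgN : g ∈ Subgroup.normalizer ((S : Subgroup G) : Set G) :=
    mem_normalizer_of_cj_le (cj_le_iff.2 (fun x hx => (hg x hx).2))
  exact (key g hgN).congr (fun x hx => ((hg x hx).1).symm)

/-- Two `p`-elements with the same image modulo a central `p'`-subgroup are equal. -/
theorem eq_of_map_eq_of_pElement {G' : Type*} [Group G'] {p : ℕ} (f : G →* G')
    (hker : f.ker ≤ Subgroup.center G) (hcop : (Nat.card f.ker).Coprime p) {y s : G}
    (hy : ∃ k : ℕ, y ^ p ^ k = 1) (hs : ∃ k : ℕ, s ^ p ^ k = 1) (hys : f y = f s) : y = s := by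
  obtain ⟨a, ha⟩ := hy
  obtain ⟨b, hb⟩ := hs
  have hz : s⁻¹ * y ∈ f.ker := by
    rw [MonoidHom.mem_ker, map_mul, map_inv, hys, inv_mul_cancel]
  have hc : Commute s (s⁻¹ * y) := ((Subgroup.mem_center_iff.1 (hker hz)) s)
  have h1 : (s⁻¹ * y) ^ p ^ (a + b) = 1 := by
    have h2 : y ^ p ^ (a + b) = 1 := by rw [pow_add, pow_mul, ha, one_pow]
    have h3 : s ^ p ^ (a + b) = 1 := by rw [pow_add, mul_comm, pow_mul, hb, one_pow]
    have h4 : (s * (s⁻¹ * y)) ^ p ^ (a + b) = s ^ p ^ (a + b) * (s⁻¹ * y) ^ p ^ (a + b) :=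
      hc.mul_pow _
    rw [mul_inv_cancel_left, h2, h3, one_mul] at h4
    exact h4.symm
  have h5 : orderOf (s⁻¹ * y) ∣ p ^ (a + b) := orderOf_dvd_of_pow_eq_one h1
  have h6 : orderOf (s⁻¹ * y) ∣ Nat.card f.ker := Subgroup.orderOf_dvd_natCard _ hz
  have h7 : orderOf (s⁻¹ * y) ∣ 1 := by
    have := Nat.dvd_gcd h6 h5
    rwa [Nat.Coprime.pow_right (a + b) hcop] at this
  have h8 : s⁻¹ * y = 1 := orderOf_eq_one_iff.1 (Nat.dvd_one.1 h7)
  exact (inv_mul_eq_one.1 h8).symm

theorem exists_pow_of_isPGroup {p : ℕ} {S : Subgroup G} (hS : IsPGroup p S) {x : G} (hx : x ∈ S) :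
    ∃ k : ℕ, x ^ p ^ k = 1 := by
  obtain ⟨k, hk⟩ := hS ⟨x, hx⟩
  exact ⟨k, congrArg Subtype.val hk⟩

theorem exists_pow_conj {p : ℕ} {x : G} (h : ∃ k : ℕ, x ^ p ^ k = 1) (g : G) :
    ∃ k : ℕ, (g * x * g⁻¹) ^ p ^ k = 1 := by
  obtain ⟨k, hk⟩ := h
  exact ⟨k, by rw [conj_pow, hk, mul_one, mul_inv_cancel]⟩

/-- The hypothesis passes to the quotient by a central `p'`-subgroup (in particular along
isomorphisms). -/
theorem GenHyp.map [Finite G] {G' : Type*} [Group G'] {p : ℕ} {S : Subgroup G}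
    (f : G →* G') (hf : Function.Surjective f) (hker : f.ker ≤ Subgroup.center G)
    (hcop : (Nat.card f.ker).Coprime p) (hS : IsPGroup p S) (h : GenHyp p f.ker S) :
    GenHyp p ⊥ (S.map f) := by
  have hpS : ∀ x ∈ S, ∃ k : ℕ, x ^ p ^ k = 1 := fun x hx => exists_pow_of_isPGroup hS hx
  have hEq := @eq_of_map_eq_of_pElement G _ G' _ p f hker hcop
  refine ⟨?_, ?_, ?_⟩
  · intro hb
    apply h.ne_bot
    rw [Subgroup.eq_bot_iff_forall]
    intro x hx
    have h1 : f x ∈ S.map f := Subgroup.mem_map_of_mem f hx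
    rw [hb, Subgroup.mem_bot] at h1
    exact hEq (hpS x hx) ⟨0, by simp⟩ (by rw [h1, map_one])
  · intro T hT hTne hcl
    have h1 : S ⊓ T.comap f = S := by
      refine h.closed _ inf_le_left ?_ ?_
      · intro hb
        apply hTne
        rw [Subgroup.eq_bot_iff_forall]
        intro t ht
        obtain ⟨s, hs, rfl⟩ := hT ht
        have : s ∈ S ⊓ T.comap f := ⟨hs, ht⟩
        rw [hb, Subgroup.mem_bot] at this
        rw [this, map_one]
      · rintro x ⟨hxS, hxT⟩ g hg
        refine ⟨hg, ?_⟩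
        show f (g * x * g⁻¹) ∈ T
        have := hcl (f x) hxT (f g) (by
          rw [← map_inv, ← map_mul, ← map_mul]
          exact Subgroup.mem_map_of_mem f hg)
        rwa [← map_inv, ← map_mul, ← map_mul] at this
    apply le_antisymm hT
    rintro _ ⟨s, hs, rfl⟩
    have : s ∈ S ⊓ T.comap f := by rw [h1]; exact hs
    exact this.2
  · intro g' hg'
    obtain ⟨g, rfl⟩ := hf g'
    have hgN : g ∈ Subgroup.normalizer (S : Set G) := by
      refine mem_normalizer_of_cj_le (cj_le_iff.2 (fun x hx => ?_))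
      have h1 : f g * f x * (f g)⁻¹ ∈ S.map f :=
        (Subgroup.mem_normalizer_iff.1 hg' (f x)).1 (Subgroup.mem_map_of_mem f hx)
      obtain ⟨s, hs, hs'⟩ := h1
      have h2 : g * x * g⁻¹ = s := by
        refine hEq (exists_pow_conj (hpS x hx) g) (hpS s hs) ?_
        rw [hs', map_mul, map_mul, map_inv]
      rw [h2]
      exact hs
    have h1 : f g ∈ (Subgroup.closure (pGenSet p f.ker S)).map f :=
      Subgroup.mem_map_of_mem f (h.gen hgN)
    rw [MonoidHom.map_closure] at h1
    refine (Subgroup.closure_mono ?_) h1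
    rintro _ ⟨t, ⟨htN, R, hRS, hSR, hC, ht⟩, rfl⟩
    refine ⟨Subgroup.le_normalizer_map f (Subgroup.mem_map_of_mem f htN), R.map f,
      Subgroup.map_mono hRS, (Subgroup.map_mono hSR).trans (Subgroup.le_normalizer_map f), ?_, ?_⟩
    · rw [sup_bot_eq]
      intro x' hx'
      obtain ⟨x, rfl⟩ := hf x'
      have hxC : x ∈ Subgroup.centralizer (R : Set G) := by
        rw [Subgroup.mem_centralizer_iff]
        intro r hr
        have h2 : f r * f x = f x * f r :=
          (Subgroup.mem_centralizer_iff.1 hx') (f r) (Subgroup.mem_map_of_mem f hr)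
        have h3 : x * r * x⁻¹ = r := by
          refine hEq (exists_pow_conj (hpS r (hRS hr)) x) (hpS r (hRS hr)) ?_
          rw [map_mul, map_mul, map_inv, ← h2, mul_inv_cancel_right]
        calc r * x = (x * r * x⁻¹) * x := by rw [h3]
          _ = x * r := by simp
      have h4 : f x ∈ (R ⊔ f.ker).map f := Subgroup.mem_map_of_mem f (hC hxC)
      rw [Subgroup.map_sup] at h4
      have h5 : f.ker.map f = ⊥ := by
        rw [Subgroup.map_eq_bot_iff]
      rwa [h5, sup_bot_eq] at h4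
    · have h2 : f t ∈ (Subgroup.closure {x : G | x ∈ Subgroup.normalizer (R : Set G) ∧
          ∃ k : ℕ, x ^ p ^ k = 1}).map f := Subgroup.mem_map_of_mem f ht
      rw [MonoidHom.map_closure] at h2
      refine (Subgroup.closure_mono ?_) h2
      rintro _ ⟨x, ⟨hxN, k, hk⟩, rfl⟩
      exact ⟨Subgroup.le_normalizer_map f (Subgroup.mem_map_of_mem f hxN), k, by
        rw [← map_pow, hk, map_one]⟩

/-- Transport along an isomorphism. -/
theorem GenHyp.map_equiv [Finite G] {G' : Type*} [Group G'] {p : ℕ} {S : Subgroup G}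
    (e : G ≃* G') (hS : IsPGroup p S) (h : GenHyp p ⊥ S) :
    GenHyp p ⊥ (S.map e.toMonoidHom) := by
  have hk : e.toMonoidHom.ker = ⊥ := (MonoidHom.ker_eq_bot_iff _).2 e.injective
  refine GenHyp.map e.toMonoidHom e.surjective (by rw [hk]; exact bot_le) (by rw [hk]; simp) hS
    (by rw [hk]; exact h)

end Cfsg.Agent.Lib.Helper89
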