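import Mathlib

set_option autoImplicit false
set_option linter.unusedSectionVars false
set_option linter.deprecated false

namespace Cfsg.Agent.Lib.Helper89

open scoped commutatorElement

section general

variable {G : Type*} [Group G] {p : ℕ} [Fact p.Prime]

/-- In a group with a normal subgroup `H` of index `p`, every element is `h * a ^ k` for a fixed
`a ∉ H`. -/
theorem exists_decomp_of_index {H : Subgroup G} [H.Normal] (h : H.index = p) {a : G} (ha : a ∉ H)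
    (g : G) : ∃ x ∈ H, ∃ k : ℕ, g = x * a ^ k := by
  have hc : Nat.card (G ⧸ H) = p := by rw [← Subgroup.index_eq_card, h]
  have ha1 : (a : G ⧸ H) ≠ 1 := fun h1 => ha ((QuotientGroup.eq_one_iff a).1 h1)
  obtain ⟨k, hk⟩ := mem_powers_of_prime_card hc ha1 (g' := (g : G ⧸ H))
  have hk' : (a : G ⧸ H) ^ k = (g : G ⧸ H) := hk
  refine ⟨g * (a ^ k)⁻¹, ?_, k, by group⟩
  rw [← QuotientGroup.eq_one_iff, QuotientGroup.mk_mul, QuotientGroup.mk_inv, QuotientGroup.mk_pow,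
    hk', mul_inv_cancel]

theorem pow_mem_of_index {H : Subgroup G} [H.Normal] (h : H.index = p) (g : G) : g ^ p ∈ H := by
  have hc : Nat.card (G ⧸ H) = p := by rw [← Subgroup.index_eq_card, h]
  rw [← QuotientGroup.eq_one_iff, QuotientGroup.mk_pow, ← hc]
  exact pow_card_eq_one'

theorem comm_mem_of_index {H : Subgroup G} [H.Normal] (h : H.index = p) (g k : G) :
    g * k * g⁻¹ * k⁻¹ ∈ H := by
  have hc : Nat.card (G ⧸ H) = p := by rw [← Subgroup.index_eq_card, h]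
  have := isCyclic_of_prime_card hc
  have hcomm : ∀ x y : G ⧸ H, x * y = y * x := fun x y => IsCyclic.commGroup.mul_comm x y
  rw [← QuotientGroup.eq_one_iff, QuotientGroup.mk_mul, QuotientGroup.mk_mul, QuotientGroup.mk_mul,
    QuotientGroup.mk_inv, QuotientGroup.mk_inv, hcomm g k, mul_inv_cancel_right, mul_inv_cancel]

/-- Converse: index `p` from a generator of the quotient. -/
theorem index_eq_of_decomp {H : Subgroup G} [H.Normal] {a : G} (ha : a ∉ H) (hap : a ^ p ∈ H)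
    (h : ∀ g : G, ∃ x ∈ H, ∃ k : ℤ, g = x * a ^ k) : H.index = p := by
  have ha1 : (a : G ⧸ H) ≠ 1 := fun h1 => ha ((QuotientGroup.eq_one_iff a).1 h1)
  have hap' : (a : G ⧸ H) ^ p = 1 := by
    rw [← QuotientGroup.mk_pow]
    exact (QuotientGroup.eq_one_iff _).2 hap
  have hord : orderOf (a : G ⧸ H) = p := orderOf_eq_prime hap' ha1
  have htop : Subgroup.zpowers (a : G ⧸ H) = ⊤ := by
    rw [eq_top_iff]
    intro y _
    obtain ⟨g, rfl⟩ := QuotientGroup.mk_surjective y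
    obtain ⟨x, hx, k, rfl⟩ := h g
    refine ⟨k, ?_⟩
    show (a : G ⧸ H) ^ k = _
    rw [QuotientGroup.mk_mul, (QuotientGroup.eq_one_iff x).2 hx, one_mul, QuotientGroup.mk_zpow]
  rw [Subgroup.index_eq_card, ← Subgroup.card_top, ← htop, Nat.card_zpowers, hord]

end general

variable {Ω : Type*} [Group Ω]

/-- `A` is an abelian subgroup of index `p` of the nonabelian finite `p`-group `S`. -/
structure AbIdx (p : ℕ) (S A : Subgroup Ω) : Prop where
  pgrp : IsPGroup p S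
  le : A ≤ S
  comm : ∀ a ∈ A, ∀ b ∈ A, a * b = b * a
  idx : (A.subgroupOf S).index = p
  nonab : ¬ ∀ a ∈ S, ∀ b ∈ S, a * b = b * a

namespace AbIdx

variable {p : ℕ} [Fact p.Prime] {S A : Subgroup Ω} [Finite S]

theorem normal (D : AbIdx p S A) : (A.subgroupOf S).Normal := by
  apply Subgroup.normal_of_index_eq_minFac_card
  obtain ⟨n, hn⟩ := IsPGroup.iff_card.1 D.pgrp
  have hn0 : n ≠ 0 := by
    rintro rfl
    have h1 : (A.subgroupOf S).index ∣ Nat.card S := Subgroup.index_dvd_card _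
    rw [D.idx, hn, pow_zero] at h1
    exact (Fact.out : p.Prime).one_lt.ne' (Nat.dvd_one.1 h1)
  rw [D.idx, hn, Nat.pow_minFac hn0, (Fact.out : p.Prime).minFac_eq]

theorem conj_mem (D : AbIdx p S A) {g a : Ω} (hg : g ∈ S) (ha : a ∈ A) : g * a * g⁻¹ ∈ A := by
  have := D.normal.conj_mem ⟨a, D.le ha⟩ (Subgroup.mem_subgroupOf.2 ha) ⟨g, hg⟩
  exact Subgroup.mem_subgroupOf.1 this

theorem exists_decomp (D : AbIdx p S A) {y : Ω} (hy : y ∈ S) (hyA : y ∉ A) {g : Ω} (hg : g ∈ S) :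
    ∃ a ∈ A, ∃ k : ℕ, g = a * y ^ k := by
  have := D.normal
  obtain ⟨x, hx, k, hk⟩ := exists_decomp_of_index D.idx (a := ⟨y, hy⟩)
    (fun h => hyA (Subgroup.mem_subgroupOf.1 h)) ⟨g, hg⟩
  exact ⟨x, Subgroup.mem_subgroupOf.1 hx, k, by simpa using congrArg Subtype.val hk⟩

theorem pow_mem (D : AbIdx p S A) {y : Ω} (hy : y ∈ S) : y ^ p ∈ A := by
  have := D.normal
  have h := pow_mem_of_index D.idx (⟨y, hy⟩ : S)
  exact Subgroup.mem_subgroupOf.1 h

theorem comm_mem (D : AbIdx p S A) {g k : Ω} (hg : g ∈ S) (hk : k ∈ S) :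
    g * k * g⁻¹ * k⁻¹ ∈ A := by
  have := D.normal
  have h := comm_mem_of_index D.idx (⟨g, hg⟩ : S) ⟨k, hk⟩
  exact Subgroup.mem_subgroupOf.1 h

theorem mem_Z_iff {g : Ω} :
    g ∈ S ⊓ Subgroup.centralizer (S : Set Ω) ↔ g ∈ S ∧ ∀ s ∈ S, s * g = g * s := by
  rw [Subgroup.mem_inf, Subgroup.mem_centralizer_iff]
  rfl

/-- `C_A(y) = Z(S)` for `y ∈ S ∖ A`. -/
theorem mem_Z_of_comm (D : AbIdx p S A) {y a : Ω} (hy : y ∈ S) (hyA : y ∉ A) (ha : a ∈ A)
    (h : a * y = y * a) : a ∈ S ⊓ Subgroup.centralizer (S : Set Ω) := by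
  rw [mem_Z_iff]
  refine ⟨D.le ha, fun s hs => ?_⟩
  obtain ⟨b, hb, k, rfl⟩ := D.exists_decomp hy hyA hs
  have h1 : Commute a (y ^ k) := Commute.pow_right h k
  rw [mul_assoc, ← h1.eq, ← mul_assoc, ← mul_assoc, D.comm b hb a ha]

theorem Z_le (D : AbIdx p S A) : S ⊓ Subgroup.centralizer (S : Set Ω) ≤ A := by
  intro z hz
  by_contra hzA
  rw [mem_Z_iff] at hz
  apply D.nonab
  intro a ha b hb
  obtain ⟨a', ha', k, rfl⟩ := D.exists_decomp hz.1 hzA ha
  obtain ⟨b', hb', l, rfl⟩ := D.exists_decomp hz.1 hzA hb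
  have c1 : Commute a' b' := D.comm a' ha' b' hb'
  have c2 : Commute a' z := hz.2 a' (D.le ha')
  have c3 : Commute b' z := hz.2 b' (D.le hb')
  have c4 : Commute (a' * z ^ k) (b' * z ^ l) :=
    Commute.mul_left (Commute.mul_right c1 (c2.pow_right l))
      (Commute.mul_right (c3.symm.pow_left k) ((Commute.refl z).pow_pow k l))
  exact c4.eq

theorem exists_not_mem (D : AbIdx p S A) : ∃ y ∈ S, y ∉ A := by
  by_contra h
  push Not at h
  exact D.nonab (fun a ha b hb => D.comm a (h a ha) b (h b hb))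

theorem mem_Z2_iff {g : Ω} : g ∈ (upperCentralSeries ↥S 2).map S.subtype ↔
    g ∈ S ∧ ∀ s ∈ S, g * s * g⁻¹ * s⁻¹ ∈ S ⊓ Subgroup.centralizer (S : Set Ω) := by
  constructor
  · rintro ⟨x, hx, rfl⟩
    refine ⟨x.2, fun s hs => ?_⟩
    have h1 := (mem_upperCentralSeries_succ_iff (n := 1)).1 hx ⟨s, hs⟩
    rw [upperCentralSeries_one, Subgroup.mem_center_iff] at h1
    rw [mem_Z_iff]
    refine ⟨S.mul_mem (S.mul_mem (S.mul_mem x.2 hs) (S.inv_mem x.2)) (S.inv_mem hs),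
      fun u hu => ?_⟩
    exact congrArg Subtype.val (h1 ⟨u, hu⟩)
  · rintro ⟨hg, h⟩
    refine ⟨⟨g, hg⟩, ?_, rfl⟩
    refine (mem_upperCentralSeries_succ_iff (n := 1)).2 (fun y => ?_)
    rw [upperCentralSeries_one, Subgroup.mem_center_iff]
    intro u
    have h1 := (mem_Z_iff.1 (h y y.2)).2 u u.2
    exact Subtype.ext h1

theorem Z_le_Z2 : S ⊓ Subgroup.centralizer (S : Set Ω) ≤ (upperCentralSeries ↥S 2).map S.subtype := by
  intro z hz
  rw [mem_Z2_iff]
  have hz' := mem_Z_iff.1 hz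
  refine ⟨hz'.1, fun s hs => ?_⟩
  rw [← hz'.2 s hs, mul_inv_cancel_right, mul_inv_cancel]
  exact Subgroup.one_mem _

theorem comm_mem_commutator {g k : Ω} (hg : g ∈ S) (hk : k ∈ S) :
    g * k * g⁻¹ * k⁻¹ ∈ (commutator ↥S).map S.subtype :=
  ⟨⁅(⟨g, hg⟩ : S), ⟨k, hk⟩⁆, Subgroup.commutator_mem_commutator (Subgroup.mem_top _)
    (Subgroup.mem_top _), rfl⟩

end AbIdx

end Cfsg.Agent.Lib.Helper89
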