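import Cfsg.Agent.Lib.Helper15.ZJ

set_option autoImplicit false

namespace Cfsg.Agent.Lib.Helper89

open Cfsg.Agent.Lib.Helper15 Cfsg.Agent.Lib.Helper15.ZJ

variable {G : Type*} [Group G]

/-- The hypotheses of the axiomatic `ZJ`-theorem on a family `𝒜` of abelian subgroups of `S`. -/
structure AxZJ (S : Subgroup G) (𝒜 : Set (Subgroup G)) : Prop where
  le : ∀ A ∈ 𝒜, A ≤ S
  comm : ∀ A ∈ 𝒜, ∀ x ∈ A, ∀ y ∈ A, x * y = y * x
  ne : 𝒜.Nonempty
  inv : ∀ R : Subgroup G, R ≤ S → (∃ A ∈ 𝒜, A ≤ R) → ∀ g ∈ Subgroup.normalizer (R : Set G),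
    ∀ x ∈ sInf {A : Subgroup G | A ∈ 𝒜 ∧ A ≤ R}, g * x * g⁻¹ ∈ sInf {A : Subgroup G | A ∈ 𝒜 ∧ A ≤ R}
  rep : ∀ B : Subgroup G, B ≤ S → ⁅⁅B, B⁆, B⁆ = ⊥ → (∃ A ∈ 𝒜, ⁅B, B⁆ ≤ A ∧ ¬ B ≤ A) →
    ∃ A ∈ 𝒜, ⁅B, B⁆ ≤ A ∧ ¬ B ≤ A ∧ B ≤ Subgroup.normalizer (A : Set G)

theorem AxZJ.sInf_le {S : Subgroup G} {𝒜 : Set (Subgroup G)} (h : AxZJ S 𝒜) : sInf 𝒜 ≤ S := by
  obtain ⟨A, hA⟩ := h.ne
  exact (_root_.sInf_le hA).trans (h.le A hA)

theorem AxZJ.sInf_comm {S : Subgroup G} {𝒜 : Set (Subgroup G)} (h : AxZJ S 𝒜) :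
    ∀ x ∈ sInf 𝒜, ∀ y ∈ sInf 𝒜, x * y = y * x := by
  obtain ⟨A, hA⟩ := h.ne
  intro x hx y hy
  exact h.comm A hA x (_root_.sInf_le hA hx) y (_root_.sInf_le hA hy)

theorem AxZJ.conj_mem {S : Subgroup G} {𝒜 : Set (Subgroup G)} (h : AxZJ S 𝒜) :
    ∀ s ∈ S, ∀ z ∈ sInf 𝒜, s * z * s⁻¹ ∈ sInf 𝒜 := by
  obtain ⟨A, hA⟩ := h.ne
  have h1 : {A : Subgroup G | A ∈ 𝒜 ∧ A ≤ S} = 𝒜 := by
    ext A
    exact ⟨fun h => h.1, fun hA => ⟨hA, h.le A hA⟩⟩
  have h2 := h.inv S le_rfl ⟨A, hA, h.le A hA⟩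
  rw [h1] at h2
  intro s hs
  exact h2 s (Subgroup.le_normalizer hs)

theorem AxZJ.inf_normal_aux [Finite G] {p : ℕ} [Fact p.Prime] (S : Sylow p G)
    (hst : PStab p (S : Subgroup G)) {𝒜 : Set (Subgroup G)} (h : AxZJ (S : Subgroup G) 𝒜) :
    ∀ (n : ℕ) (B : Subgroup G), Nat.card B = n → B.Normal → IsPGroup p B →
      (sInf 𝒜 ⊓ B).Normal := by
  intro n
  induction n using Nat.strong_induction_on with
  | _ n ih =>
  intro B hBn hBnorm hBp
  set Z := sInf 𝒜 with hZ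
  have hBS : B ≤ S := hBp.le_sylow_of_normal S
  have hSZ : ∀ s ∈ (S : Subgroup G), ∀ z ∈ Z, s * z * s⁻¹ ∈ Z := h.conj_mem
  have hcardlt : ∀ C : Subgroup G, C < B → Nat.card C < n := by
    intro C hC
    rw [← hBn]
    by_contra hcon
    push Not at hcon
    exact hC.ne (Subgroup.eq_of_le_of_card_ge hC.le hcon)
  by_cases hB1 : Subgroup.normalClosure ((Z ⊓ B : Subgroup G) : Set G) = B
  swap
  · have hB1le : Subgroup.normalClosure ((Z ⊓ B : Subgroup G) : Set G) ≤ B :=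
      Subgroup.normalClosure_le_normal (inf_le_right : Z ⊓ B ≤ B)
    have := ih _ (hcardlt _ (lt_of_le_of_ne hB1le hB1)) _ rfl Subgroup.normalClosure_normal
      (hBp.to_le hB1le)
    have heq : Z ⊓ B = Z ⊓ Subgroup.normalClosure ((Z ⊓ B : Subgroup G) : Set G) :=
      le_antisymm (le_inf inf_le_left Subgroup.le_normalClosure) (inf_le_inf_left _ hB1le)
    rw [heq]
    exact this
  by_cases hbot : B = ⊥
  · rw [hbot, inf_bot_eq]
    infer_instance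
  have hB' : ⁅B, B⁆ < B := commutator_lt hBp hbot
  have hM : (Z ⊓ ⁅B, B⁆).Normal :=
    ih _ (hcardlt _ hB') _ rfl (Subgroup.commutator_normal B B) (hBp.to_le hB'.le)
  have hBZ' : ∀ x ∈ B, ∀ y ∈ B, x * y * x⁻¹ * y⁻¹ ∈ Z ⊓ ⁅B, B⁆ := by
    intro x hx y hy
    have h := comm_mem_of_normalClosure (W := Z ⊓ B) hM hBnorm (by
      intro z hz y hy
      refine ⟨?_, Subgroup.commutator_mem_commutator hz.2 hy⟩
      have : z * y * z⁻¹ * y⁻¹ = z * (y * z⁻¹ * y⁻¹) := by group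
      rw [this]
      exact Z.mul_mem hz.1 (hSZ y (hBS hy) _ (Z.inv_mem hz.1)))
    rw [hB1] at h
    exact h x hx y hy
  have hBBZ : ⁅B, B⁆ ≤ Z := by
    rw [Subgroup.commutator_le]
    intro x hx y hy
    exact (hBZ' x hx y hy).1
  have hcl : ⁅⁅B, B⁆, B⁆ = ⊥ := by
    rw [Subgroup.commutator_eq_bot_iff_le_centralizer]
    have h1 : B ≤ Subgroup.centralizer ((Z ⊓ ⁅B, B⁆ : Subgroup G) : Set G) := by
      have h0 : Subgroup.normalClosure ((Z ⊓ B : Subgroup G) : Set G) ≤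
          Subgroup.centralizer ((Z ⊓ ⁅B, B⁆ : Subgroup G) : Set G) := by
        apply Subgroup.normalClosure_le_normal
        intro z hz
        rw [SetLike.mem_coe, Subgroup.mem_centralizer_iff]
        intro m hm
        exact h.sInf_comm m hm.1 z hz.1
      rw [hB1] at h0
      exact h0
    intro c hc
    rw [Subgroup.mem_centralizer_iff]
    intro b hb
    exact (Subgroup.mem_centralizer_iff.1 (h1 hb) c ⟨hBBZ hc, hc⟩).symm
  by_cases hall : ∀ A ∈ 𝒜, B ≤ A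
  · have : Z ⊓ B = B := inf_eq_right.2 (le_sInf hall)
    rw [this]
    exact hBnorm
  exfalso
  push Not at hall
  obtain ⟨A0, hA0, hBA0⟩ := hall
  obtain ⟨A, hA, -, hBA, hBNA⟩ := h.rep B hBS hcl ⟨A0, hA0, hBBZ.trans (_root_.sInf_le hA0), hBA0⟩
  set N1 := Subgroup.normalizer ((Z ⊓ B : Subgroup G) : Set G) with hN1
  set L := N1.normalCore with hL
  set T := (S : Subgroup G) ⊓ L with hT
  have hfr : Subgroup.normalizer (T : Set G) ⊔ L = ⊤ := frattini S L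
  have hTS : T ≤ S := inf_le_left
  have hLN1 : L ≤ N1 := Subgroup.normalCore_le N1
  have hSN1 : (S : Subgroup G) ≤ N1 := by
    intro s hs
    apply Repl.mem_normalizer_of_conj
    intro x hx
    exact ⟨hSZ s hs x hx.1, hBnorm.conj_mem x hx.2 s⟩
  have hCN1 : Subgroup.centralizer (B : Set G) ≤ N1 := by
    intro c hc
    apply Repl.mem_normalizer_of_conj
    intro x hx
    have : c * x * c⁻¹ = x := by
      rw [← Subgroup.mem_centralizer_iff.1 hc x hx.2]; group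
    rw [this]
    exact hx
  have hAL : A ≤ L := by
    intro a ha
    obtain ⟨K, hK, haK, hKp⟩ := hst B hBnorm hBp a (h.le A hA ha)
      (quad_of_normalizes (h.comm A hA) hBNA ha)
    have h1 : K ≤ Subgroup.centralizer (B : Set G) ⊔ (S : Subgroup G) :=
      le_sup_sylow S hK inferInstance hKp
    have h2 : K ≤ N1 := h1.trans (sup_le hCN1 hSN1)
    exact (Subgroup.normal_le_normalCore.2 h2) haK
  have hAT : A ≤ T := le_inf (h.le A hA) hAL
  set I := sInf {A : Subgroup G | A ∈ 𝒜 ∧ A ≤ T} with hI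
  have hZI : Z ≤ I := sInf_le_sInf (fun A hA => hA.1)
  have hIA : I ≤ A := _root_.sInf_le ⟨hA, hAT⟩
  apply hBA
  refine le_trans ?_ hIA
  rw [← hB1]
  unfold Subgroup.normalClosure
  rw [Subgroup.closure_le]
  intro y hy
  rw [Group.mem_conjugatesOfSet_iff] at hy
  obtain ⟨x, hx, hxy⟩ := hy
  rw [isConj_iff] at hxy
  obtain ⟨g, rfl⟩ := hxy
  have hg : g ∈ Subgroup.normalizer (T : Set G) ⊔ L := by rw [hfr]; trivial
  rw [Subgroup.mem_sup_of_normal_right] at hg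
  obtain ⟨n', hn', l, hl, rfl⟩ := hg
  have h1 : l * x * l⁻¹ ∈ Z ⊓ B := (Subgroup.mem_normalizer_iff.1 (hLN1 hl) x).1 hx
  have h2 : n' * l * x * (n' * l)⁻¹ = n' * (l * x * l⁻¹) * n'⁻¹ := by group
  rw [h2]
  exact h.inv T hTS ⟨A, hA, hAT⟩ n' hn' _ (hZI h1.1)

/-- The axiomatic `ZJ`-theorem. -/
theorem AxZJ.normal [Finite G] {p : ℕ} [Fact p.Prime] (S : Sylow p G)
    (hst : PStab p (S : Subgroup G)) {𝒜 : Set (Subgroup G)} (h : AxZJ (S : Subgroup G) 𝒜)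
    {Q : Subgroup G} (hQ : Q.Normal) (hQp : IsPGroup p Q)
    (hc : Subgroup.centralizer (Q : Set G) ≤ Q) : (sInf 𝒜).Normal := by
  set Z := sInf 𝒜 with hZ
  have hQS : Q ≤ S := hQp.le_sylow_of_normal S
  have hZS : Z ≤ S := h.sInf_le
  have hQN : Q ≤ Subgroup.normalizer (Z : Set G) := by
    intro q hq
    apply Repl.mem_normalizer_of_conj
    intro x hx
    exact h.conj_mem q (hQS hq) x hx
  have hcl : Subgroup.normalClosure (Z : Set G) ≤ S := by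
    unfold Subgroup.normalClosure
    rw [Subgroup.closure_le]
    intro y hy
    rw [Group.mem_conjugatesOfSet_iff] at hy
    obtain ⟨z, hz, hzy⟩ := hy
    rw [isConj_iff] at hzy
    obtain ⟨g, rfl⟩ := hzy
    obtain ⟨K, hK, hzK, hKp⟩ := hst Q hQ hQp z (hZS hz)
      (quad_of_normalizes h.sInf_comm hQN hz)
    have h1 : K ≤ Subgroup.centralizer (Q : Set G) ⊔ (S : Subgroup G) :=
      le_sup_sylow S hK inferInstance hKp
    exact (h1.trans (sup_le (hc.trans hQS) le_rfl)) (hK.conj_mem z hzK g)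
  have h' := h.inf_normal_aux S hst _ _ rfl Subgroup.normalClosure_normal (S.2.to_le hcl)
  rwa [inf_of_le_left Subgroup.le_normalClosure] at h'

end Cfsg.Agent.Lib.Helper89
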