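import Cfsg.Agent.Lib.Helper89.NilModel
import Cfsg.Agent.Lib.Helper89.AxiomZJ
import Cfsg.Agent.Lib.Helper89.FusionAux

set_option autoImplicit false

universe u

namespace Cfsg.Agent.Lib.Helper89

open Cfsg Cfsg.FusionSystem Cfsg.Agent.Lib.Helper87 Cfsg.Agent.Lib.Helper77
open Cfsg.Agent.Lib.Helper62 Cfsg.Agent.Lib.Helper15.ZJ

theorem mem_biInf_iff {Ω : Type*} [Group Ω] {𝒜 : Set (Subgroup Ω)} {x : Ω} :
    x ∈ (⨅ A ∈ 𝒜, A) ↔ ∀ A ∈ 𝒜, x ∈ A := by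
  simp only [Subgroup.mem_iInf]

/-- The intersection of the family is normalized by `S`. -/
theorem axiomatic_le_normalizer {Ω : Type*} [Group Ω] {S : Subgroup Ω} (F : FusionSystem S)
    (𝒜 : Set (Subgroup Ω)) (h𝒜 : ∀ A ∈ 𝒜, A ≤ S ∧ IsMulCommutative ↥A) (hne : 𝒜.Nonempty)
    (hinv : ∀ Q : Subgroup Ω, Q ≤ S → (∃ A ∈ 𝒜, A ≤ Q) → ∀ α ∈ F.autGroup Q, ∀ x : ↥Q,
      (x : Ω) ∈ (⨅ A ∈ {A : Subgroup Ω | A ∈ 𝒜 ∧ A ≤ Q}, A) →
      (((α : MulAut ↥Q) x : ↥Q) : Ω) ∈ (⨅ A ∈ {A : Subgroup Ω | A ∈ 𝒜 ∧ A ≤ Q}, A)) :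
    S ≤ Subgroup.normalizer ((⨅ A ∈ 𝒜, A : Subgroup Ω) : Set Ω) := by
  obtain ⟨A0, hA0⟩ := hne
  apply le_normalizer_of_conj_mem
  intro s hs x hx
  obtain ⟨α, hα, e⟩ := exists_conj_aut F (le_refl S) (g := s) ⟨hs, Subgroup.le_normalizer hs⟩
  have hxS : x ∈ S := (h𝒜 A0 hA0).1 (mem_biInf_iff.1 hx A0 hA0)
  have h1 := hinv S le_rfl ⟨A0, hA0, (h𝒜 A0 hA0).1⟩ α hα ⟨x, hxS⟩
    (mem_biInf_iff.2 (fun A hA => mem_biInf_iff.1 hx A hA.1))
  rw [e] at h1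
  exact mem_biInf_iff.2 (fun A hA => mem_biInf_iff.1 h1 A ⟨hA, (h𝒜 A hA).1⟩)

/-- Axiomatic Glauberman-Thompson, `PAut` form. -/
theorem nil_of_pAut_axiomatic {Ω : Type u} [Group Ω] {S : Subgroup Ω} [Finite S] {p : ℕ}
    [Fact p.Prime] (hp : p ≠ 2) (hS : IsPGroup p S) {F : FusionSystem S} (hF : F.IsSaturated p)
    (𝒜 : Set (Subgroup Ω)) (h𝒜 : ∀ A ∈ 𝒜, A ≤ S ∧ IsMulCommutative ↥A) (hne : 𝒜.Nonempty)
    (hinv : ∀ Q : Subgroup Ω, Q ≤ S → (∃ A ∈ 𝒜, A ≤ Q) → ∀ α ∈ F.autGroup Q, ∀ x : ↥Q,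
      (x : Ω) ∈ (⨅ A ∈ {A : Subgroup Ω | A ∈ 𝒜 ∧ A ≤ Q}, A) →
      (((α : MulAut ↥Q) x : ↥Q) : Ω) ∈ (⨅ A ∈ {A : Subgroup Ω | A ∈ 𝒜 ∧ A ≤ Q}, A))
    (hrep : ∀ B : Subgroup Ω, B ≤ S → ⁅⁅B, B⁆, B⁆ = ⊥ → (∃ A ∈ 𝒜, ⁅B, B⁆ ≤ A ∧ ¬ B ≤ A) →
      ∃ A ∈ 𝒜, ⁅B, B⁆ ≤ A ∧ ¬ B ≤ A ∧ B ≤ Subgroup.normalizer (A : Set Ω))
    (h : PAut F p (⨅ A ∈ 𝒜, A)) : Nil F p := by
  by_contra hnil
  obtain ⟨H, _, _, j, T, R, K, hsr, hT, hHn, -, hPAP, hC⟩ :=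
    exists_minimal_obstruction hp hS hF hnil
  obtain ⟨A0, hA0⟩ := hne
  have hXS : (⨅ A ∈ 𝒜, A) ≤ S := fun x hx => (h𝒜 A0 hA0).1 (mem_biInf_iff.1 hx A0 hA0)
  have hXn := axiomatic_le_normalizer F 𝒜 h𝒜 ⟨A0, hA0⟩ hinv
  have hnpc := hsr.npc_normalizer T hT hXS hXn h
  set im : Subgroup Ω → Subgroup H := fun A => (A.subgroupOf S).map j with him
  have hle_iff : ∀ A B : Subgroup Ω, A ≤ S → (im A ≤ im B ↔ A ≤ B) := by
    intro A B hA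
    constructor
    · intro hAB x hx
      exact mem_of_tf_mem_map hsr.1 (hA hx) (hAB (tf_mem_map j hA hx))
    · intro hAB
      exact Subgroup.map_mono (fun x hx => hAB hx)
  have hax : AxZJ (T : Subgroup H) (im '' 𝒜) :=
    { le := by
        rintro _ ⟨A, -, rfl⟩
        rw [hT]
        exact map_le_range j A
      comm := by
        rintro _ ⟨A, hA, rfl⟩ _ ⟨x, hx, rfl⟩ _ ⟨y, hy, rfl⟩
        have hc := (h𝒜 A hA).2
        have h1 : (⟨x, hx⟩ : A) * ⟨y, hy⟩ = ⟨y, hy⟩ * ⟨x, hx⟩ := hc.is_comm.comm _ _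
        have h2 : x * y = y * x := Subtype.ext (congrArg (fun z : A => (z : Ω)) h1)
        rw [← map_mul, h2, map_mul]
      ne := ⟨im A0, A0, hA0, rfl⟩
      inv := by
        rintro R' hR' ⟨_, ⟨A1, hA1, rfl⟩, hA1R⟩ g hg x' hx'
        rw [hT] at hR'
        set R₀ : Subgroup Ω := pre j R' with hR₀
        have hR₀S : R₀ ≤ S := pre_le j R'
        have hmap : im R₀ = R' := map_pre j hR'
        obtain ⟨α, hα, hαg⟩ := hsr.exists_aut hR₀S (g := g) (by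
          intro y hy
          have hmap' : (R₀.subgroupOf S).map j = R' := hmap
          rw [hmap'] at hy ⊢
          exact (Subgroup.mem_normalizer_iff.1 hg y).1 hy)
        have hA1R₀ : A1 ≤ R₀ := (hle_iff A1 R₀ (h𝒜 A1 hA1).1).1 (hmap.symm ▸ hA1R)
        rw [Subgroup.mem_sInf] at hx' ⊢
        have hx'R : x' ∈ R' := hA1R (hx' _ ⟨⟨A1, hA1, rfl⟩, hA1R⟩)
        have hxR₀ : tinv j x' ∈ R₀ :=
          (mem_pre j R' _).2 ⟨tinv_mem j _, by rw [tf_tinv j (hR' hx'R)]; exact hx'R⟩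
        have h1 := hinv R₀ hR₀S ⟨A1, hA1, hA1R₀⟩ α hα ⟨tinv j x', hxR₀⟩ (by
          rw [mem_biInf_iff]
          rintro A ⟨hA, hAR⟩
          apply mem_of_tf_mem_map hsr.1 (tinv_mem j _)
          rw [tf_tinv j (hR' hx'R)]
          exact hx' _ ⟨⟨A, hA, rfl⟩, hmap ▸ (hle_iff A R₀ (h𝒜 A hA).1).2 hAR⟩)
        rintro _ ⟨⟨A, hA, rfl⟩, hAR⟩
        have hAR₀ : A ≤ R₀ := (hle_iff A R₀ (h𝒜 A hA).1).1 (hmap.symm ▸ hAR)
        have h2 := mem_biInf_iff.1 h1 A ⟨hA, hAR₀⟩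
        rw [← autFun_coe] at h2
        have h3 := tf_mem_map j (h𝒜 A hA).1 h2
        rw [hαg _ hxR₀, tf_tinv j (hR' hx'R)] at h3
        exact h3
      rep := by
        rintro B' hB' hcl ⟨_, ⟨A1, hA1, rfl⟩, hBA1, hnBA1⟩
        rw [hT] at hB'
        set C : Subgroup S := B'.comap j with hCdef
        have hCmap : C.map j = B' := Subgroup.map_comap_eq_self hB'
        set B : Subgroup Ω := C.map S.subtype with hBdef
        have hBS : B ≤ S := Subgroup.map_subtype_le C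
        have hBB : ⁅B, B⁆ = (⁅C, C⁆).map S.subtype := (Subgroup.map_commutator _ _ _).symm
        have hBB' : ⁅B', B'⁆ = (⁅C, C⁆).map j := by
          rw [Subgroup.map_commutator, hCmap]
        have hcl₀ : ⁅⁅B, B⁆, B⁆ = ⊥ := by
          rw [hBB, hBdef, ← Subgroup.map_commutator,
            Subgroup.map_eq_bot_iff_of_injective _ S.subtype_injective,
            ← Subgroup.map_eq_bot_iff_of_injective _ hsr.1, Subgroup.map_commutator,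
            Subgroup.map_commutator, hCmap]
          exact hcl
        have key : ∀ (D : Subgroup S) (A : Subgroup Ω), D.map j ≤ im A ↔ D.map S.subtype ≤ A := by
          intro D A
          rw [Subgroup.map_le_iff_le_comap (f := S.subtype)]
          exact Subgroup.map_le_map_iff_of_injective hsr.1
        obtain ⟨A, hA, h1, h2, h3⟩ := hrep B hBS hcl₀ ⟨A1, hA1, by
          rw [hBB, ← key, ← hBB']
          exact hBA1, by
          rw [hBdef, ← key, hCmap]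
          exact hnBA1⟩
        refine ⟨im A, ⟨A, hA, rfl⟩, ?_, ?_, ?_⟩
        · rw [hBB', key, ← hBB]
          exact h1
        · rw [← hCmap, key]
          exact h2
        · rw [← hCmap]
          apply le_normalizer_of_conj_mem
          rintro _ ⟨c, hc, rfl⟩ _ ⟨a, ha, rfl⟩
          refine ⟨c * a * c⁻¹, ?_, by rw [map_mul, map_mul, map_inv]⟩
          exact Subgroup.mem_subgroupOf.2
            ((Subgroup.mem_normalizer_iff.1 (h3 ⟨c, hc, rfl⟩) a).1 ha) }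
  have hn := hax.normal T (hPAP.pStab hp _) hPAP.Hn hPAP.Hp hC
  have heq : sInf (im '' 𝒜) = im (⨅ A ∈ 𝒜, A) := by
    ext y
    rw [Subgroup.mem_sInf]
    constructor
    · intro hy
      obtain ⟨x, hx, hxS, rfl⟩ := (mem_map_subgroupOf_iff j A0 y).1 (hy _ ⟨A0, hA0, rfl⟩)
      apply tf_mem_map j hXS
      rw [mem_biInf_iff]
      intro A hA
      exact mem_of_tf_mem_map hsr.1 hxS (hy _ ⟨A, hA, rfl⟩)
    · rintro hy _ ⟨A, hA, rfl⟩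
      obtain ⟨x, hx, hxS, rfl⟩ := (mem_map_subgroupOf_iff j _ y).1 hy
      exact tf_mem_map j (h𝒜 A hA).1 (mem_biInf_iff.1 hx A hA)
  rw [heq] at hn
  exact hHn (NPC.of_eq_top (Subgroup.normalizer_eq_top_iff.2 hn) hnpc)

end Cfsg.Agent.Lib.Helper89
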