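import Mathlib
import Cfsg.Agent.Lib.Helper89.ChainStab

set_option autoImplicit false

namespace Cfsg.Agent.Lib.Helper89

section

variable {U : Type*} [Group U]

/-- The chain `1 ≤ X1 ≤ X2 ≤ X3 ≤ U` as a function on `ℕ`. -/
def chain4 (X1 X2 X3 : Subgroup U) : ℕ → Subgroup U
  | 0 => ⊥
  | 1 => X1
  | 2 => X2
  | 3 => X3
  | _ => ⊤

theorem chain4_inv {X1 X2 X3 : Subgroup U} (a : MulAut U) (h1 : ∀ x ∈ X1, a x ∈ X1)
    (h2 : ∀ x ∈ X2, a x ∈ X2) (h3 : ∀ x ∈ X3, a x ∈ X3) :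
    ∀ i, ∀ x ∈ chain4 X1 X2 X3 i, a x ∈ chain4 X1 X2 X3 i := by
  intro i
  match i with
  | 0 =>
    intro x hx
    have hx1 : x = 1 := Subgroup.mem_bot.1 hx
    rw [hx1, map_one]
    exact Subgroup.one_mem _
  | 1 => exact h1
  | 2 => exact h2
  | 3 => exact h3
  | (k + 4) => exact fun x _ => Subgroup.mem_top _

theorem chain4_stab {X1 X2 X3 : Subgroup U} (a : MulAut U) (s1 : ∀ x ∈ X1, a x = x)
    (s2 : ∀ x ∈ X2, x⁻¹ * a x ∈ X1) (s3 : ∀ x ∈ X3, x⁻¹ * a x ∈ X2)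
    (s4 : ∀ x, x⁻¹ * a x ∈ X3) :
    ∀ i < 4, ∀ x ∈ chain4 X1 X2 X3 (i + 1), x⁻¹ * a x ∈ chain4 X1 X2 X3 i := by
  intro i hi
  match i, hi with
  | 0, _ =>
    intro x hx
    rw [s1 x hx, inv_mul_cancel]
    exact Subgroup.one_mem _
  | 1, _ => exact s2
  | 2, _ => exact s3
  | 3, _ => exact fun x _ => s4 x

/-- `a` stabilizes the chain `X`. -/
def StabChain (X : ℕ → Subgroup U) (m : ℕ) (a : MulAut U) : Prop :=
  (∀ i, ∀ x ∈ X i, a x ∈ X i) ∧ ∀ i < m, ∀ x ∈ X (i + 1), x⁻¹ * a x ∈ X i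

theorem StabChain.one (X : ℕ → Subgroup U) (m : ℕ) : StabChain X m 1 :=
  ⟨fun _ _ hx => hx, fun i _ x _ => by simp⟩

theorem StabChain.mul {X : ℕ → Subgroup U} {m : ℕ} {a b : MulAut U} (ha : StabChain X m a)
    (hb : StabChain X m b) : StabChain X m (a * b) := by
  refine ⟨fun i x hx => ha.1 i _ (hb.1 i x hx), fun i hi x hx => ?_⟩
  have h1 : x⁻¹ * (a * b) x = (x⁻¹ * a x) * a (x⁻¹ * b x) := by
    rw [MulAut.mul_apply, map_mul, map_inv]
    group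
  rw [h1]
  exact (X i).mul_mem (ha.2 i hi x hx) (ha.1 i _ (hb.2 i hi x hx))

theorem StabChain.pow {X : ℕ → Subgroup U} {m : ℕ} {a : MulAut U} (ha : StabChain X m a)
    (k : ℕ) : StabChain X m (a ^ k) := by
  induction k with
  | zero => rw [pow_zero]; exact StabChain.one X m
  | succ k ih => rw [pow_succ]; exact ih.mul ha

theorem StabChain.inv [Finite U] {X : ℕ → Subgroup U} {m : ℕ} {a : MulAut U}
    (ha : StabChain X m a) : StabChain X m a⁻¹ := by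
  have h1 : a⁻¹ = a ^ (orderOf a - 1) := by
    rw [inv_eq_iff_mul_eq_one, ← pow_succ']
    have : orderOf a - 1 + 1 = orderOf a := Nat.sub_add_cancel (orderOf_pos a)
    rw [this, pow_orderOf_eq_one]
  rw [h1]
  exact ha.pow _

theorem stabChain_of_mem_closure [Finite U] {X : ℕ → Subgroup U} {m : ℕ} {T : Set (MulAut U)}
    (hT : ∀ a ∈ T, StabChain X m a) {a : MulAut U} (ha : a ∈ Subgroup.closure T) :
    StabChain X m a := by
  induction ha using Subgroup.closure_induction with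
  | mem a ha => exact hT a ha
  | one => exact StabChain.one X m
  | mul a b _ _ ha hb => exact ha.mul hb
  | inv a _ ha => exact ha.inv

theorem stabChain4 {X1 X2 X3 : Subgroup U} (h12 : X1 ≤ X2) (h23 : X2 ≤ X3) (a : MulAut U)
    (s1 : ∀ x ∈ X1, a x = x) (s2 : ∀ x ∈ X2, x⁻¹ * a x ∈ X1) (s3 : ∀ x ∈ X3, x⁻¹ * a x ∈ X2)
    (s4 : ∀ x, x⁻¹ * a x ∈ X3) : StabChain (chain4 X1 X2 X3) 4 a := by
  refine ⟨chain4_inv a (fun x hx => by rw [s1 x hx]; exact hx) (fun x hx => ?_) (fun x hx => ?_),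
    chain4_stab a s1 s2 s3 s4⟩
  · have := X2.mul_mem hx (h12 (s2 x hx))
    rwa [mul_inv_cancel_left] at this
  · have := X3.mul_mem hx (h23 (s3 x hx))
    rwa [mul_inv_cancel_left] at this

/-- Automorphisms of a finite `p`-group stabilizing a common chain generate a `p`-group. -/
theorem isPGroup_closure_of_stabChain {p : ℕ} [Fact p.Prime] [Finite U] (hU : IsPGroup p U)
    (X : ℕ → Subgroup U) (m : ℕ) (h0 : X 0 = ⊥) (hm : X m = ⊤) (T : Set (MulAut U))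
    (hT : ∀ a ∈ T, StabChain X m a) : IsPGroup p (Subgroup.closure T) := by
  intro a
  have ha := stabChain_of_mem_closure hT a.2
  obtain ⟨k, hk⟩ := exists_pow_eq_one_of_stabilizes_chain hU (a : MulAut U) m X h0 hm ha.1 ha.2
  exact ⟨k, Subtype.ext hk⟩

end

theorem le_normalizer_of_conj_mem {Ω : Type*} [Group Ω] {H D : Subgroup Ω}
    (h : ∀ u ∈ H, ∀ x ∈ D, u * x * u⁻¹ ∈ D) : H ≤ Subgroup.normalizer (D : Set Ω) := by
  intro u hu
  rw [Subgroup.mem_normalizer_iff]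
  intro x
  refine ⟨h u hu x, fun hx => ?_⟩
  have := h u⁻¹ (H.inv_mem hu) _ hx
  have e : u⁻¹ * (u * x * u⁻¹) * u⁻¹⁻¹ = x := by group
  rwa [e] at this

end Cfsg.Agent.Lib.Helper89
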