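import Mathlib
import Cfsg.Prelude.Def_Transfer
import Cfsg.Agent.Lib.Helper3.ClassTwo
import Cfsg.Agent.Lib.Helper3.Extraspecial
import Cfsg.Agent.Lib.Helper67.Heisenberg
import Cfsg.Agent.Lib.Helper5.DihedralIso

set_option autoImplicit false
set_option linter.unusedSectionVars false

namespace Cfsg.Agent.Lib.Helper89

open scoped commutatorElement

section Basic

variable {G : Type*} [Group G]

/-- A nontrivial power of an element `x` with `x ^ p = 1` generates the same cyclic group. -/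
theorem mem_zpowers_of_ne_one {p : ℕ} [Fact p.Prime] {x y : G} (hx : x ^ p = 1)
    (hy : y ∈ Subgroup.zpowers x) (hy1 : y ≠ 1) : x ∈ Subgroup.zpowers y := by
  obtain ⟨k, rfl⟩ := hy
  have hk : ¬ (p : ℤ) ∣ k := by
    rintro ⟨m, rfl⟩
    apply hy1
    show x ^ ((p : ℤ) * m) = 1
    rw [zpow_mul, zpow_natCast, hx, one_zpow]
  have hcop : IsCoprime (p : ℤ) k :=
    (Nat.prime_iff_prime_int.1 (Fact.out : p.Prime)).coprime_iff_not_dvd.2 hk
  obtain ⟨a, b, hab⟩ := hcop
  refine ⟨b, ?_⟩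
  show (x ^ k) ^ b = x
  have h1 : x ^ (a * (p : ℤ)) = 1 := by
    rw [mul_comm, zpow_mul, zpow_natCast, hx, one_zpow]
  calc (x ^ k) ^ b = x ^ (a * (p : ℤ)) * x ^ (b * k) := by
        rw [h1, one_mul, mul_comm b k, zpow_mul]
    _ = x ^ (1 : ℤ) := by rw [← zpow_add, hab]
    _ = x := zpow_one x

/-- If `x ^ p = 1` and `x ∉ H`, then `⟨x⟩ ∩ H = 1`. -/
theorem eq_one_of_mem_zpowers_of_mem {p : ℕ} [Fact p.Prime] {x y : G} (hx : x ^ p = 1)
    (H : Subgroup G) (hxH : x ∉ H) (hy : y ∈ Subgroup.zpowers x) (hyH : y ∈ H) : y = 1 := by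
  by_contra hy1
  obtain ⟨k, hk⟩ := mem_zpowers_of_ne_one hx hy hy1
  exact hxH (hk ▸ H.zpow_mem hyH k)

/-- In an elementary abelian group, a cyclic subgroup of order `p` has a complement. -/
theorem exists_max_avoiding {C : Type*} [CommGroup C] [Finite C] {p : ℕ} [Fact p.Prime]
    (hexp : ∀ c : C, c ^ p = 1) (z : C) (hz : z ≠ 1) :
    ∃ A : Subgroup C, z ∉ A ∧ ∀ c : C, ∃ a ∈ A, ∃ k : ℤ, c = a * z ^ k := by
  have hfin : ({A : Subgroup C | z ∉ A} : Set (Subgroup C)).Finite := Set.toFinite _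
  have hne : ({A : Subgroup C | z ∉ A} : Set (Subgroup C)).Nonempty :=
    ⟨⊥, fun h => hz (Subgroup.mem_bot.1 h)⟩
  obtain ⟨A, hA⟩ := hfin.exists_maximal hne
  refine ⟨A, hA.prop, fun c => ?_⟩
  by_cases hc : c ∈ A
  · exact ⟨c, hc, 0, by simp⟩
  · have hz' : z ∈ A ⊔ Subgroup.zpowers c := by
      by_contra hcon
      have h1 : A ⊔ Subgroup.zpowers c ≤ A := hA.le_of_ge hcon le_sup_left
      exact hc (h1 (Subgroup.mem_sup_right (Subgroup.mem_zpowers c)))
    obtain ⟨a, ha, b, hb, hab⟩ := Subgroup.mem_sup.1 hz'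
    have hb1 : b ≠ 1 := by
      rintro rfl
      rw [mul_one] at hab
      exact hA.prop (hab ▸ ha)
    obtain ⟨m, hm⟩ := mem_zpowers_of_ne_one (hexp c) hb hb1
    refine ⟨(a ^ m)⁻¹, A.inv_mem (A.zpow_mem ha m), m, ?_⟩
    have hb' : b = a⁻¹ * z := by rw [← hab]; group
    have hm' : b ^ m = c := hm
    rw [← hm', hb', mul_zpow, inv_zpow]

/-- A carrier type in the lowest universe without any algebraic instance. -/
def FinCarrier (n : ℕ) : Type := Fin n

/-- Transport of a finite group to the lowest universe. -/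
theorem exists_type_group (X : Type*) [Group X] [Finite X] :
    ∃ (E : Type) (_ : Group E), Nonempty (X ≃* E) := by
  let e : FinCarrier (Nat.card X) ≃ X := (Finite.equivFin X).symm
  let _ : Group (FinCarrier (Nat.card X)) := e.group
  exact ⟨FinCarrier (Nat.card X), inferInstance, ⟨e.mulEquiv.symm⟩⟩

theorem exists_type_commGroup (X : Type*) [Group X] [Finite X] (hc : ∀ a b : X, a * b = b * a) :
    ∃ (A : Type) (_ : CommGroup A), Nonempty (X ≃* A) := by
  let e : FinCarrier (Nat.card X) ≃ X := (Finite.equivFin X).symm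
  let _ : Group (FinCarrier (Nat.card X)) := e.group
  let f : FinCarrier (Nat.card X) ≃* X := e.mulEquiv
  refine ⟨FinCarrier (Nat.card X), { (inferInstance : Group (FinCarrier (Nat.card X))) with
    mul_comm := fun a b => f.injective (by rw [map_mul, map_mul, hc]) }, ⟨f.symm⟩⟩

end Basic

section Struct

/-- Data of a group with derived subgroup of order `p`, an elementary abelian subgroup `U0` which is
the centralizer of one of its elements `w`, and an element `n` of order `p` outside `U0`. -/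
structure GEData (p : ℕ) {G : Type*} [Group G] (U0 : Subgroup G) (w n : G) : Prop where
  comm_le : commutator G ≤ Subgroup.center G
  card_comm : Nat.card (commutator G) = p
  abel : ∀ x ∈ U0, ∀ y ∈ U0, x * y = y * x
  exp : ∀ x ∈ U0, x ^ p = 1
  hw : w ∈ U0
  cent : ∀ g, Commute w g → g ∈ U0
  hn : n ∉ U0
  hnp : n ^ p = 1

variable {G : Type*} [Group G] {p : ℕ} [Fact p.Prime]

theorem comm_mem_commutator (x y : G) : ⁅x, y⁆ ∈ commutator G :=
  Subgroup.commutator_mem_commutator (Subgroup.mem_top x) (Subgroup.mem_top y)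

theorem mem_zpowers_of_mem_commutator (hcard : Nat.card (commutator G) = p) {c d : G}
    (hc : c ∈ commutator G) (hc1 : c ≠ 1) (hd : d ∈ commutator G) : d ∈ Subgroup.zpowers c := by
  have h1 : (⟨c, hc⟩ : commutator G) ≠ 1 := fun h => hc1 (congrArg Subtype.val h)
  obtain ⟨k, hk⟩ := mem_zpowers_of_prime_card hcard h1 (g' := ⟨d, hd⟩)
  exact ⟨k, by simpa using congrArg Subtype.val hk⟩

theorem exists_zpow_commute (hc : commutator G ≤ Subgroup.center G)
    (hcard : Nat.card (commutator G) = p) {x y : G} (hxy : ¬ Commute x y) (g : G) :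
    ∃ k : ℤ, Commute x (g * (y ^ k)⁻¹) := by
  obtain ⟨k, hk⟩ := mem_zpowers_of_mem_commutator hcard (comm_mem_commutator x y)
    (fun h => hxy (commutatorElement_eq_one_iff_commute.1 h)) (comm_mem_commutator x g)
  have hk' : ⁅x, y⁆ ^ k = ⁅x, g⁆ := hk
  refine ⟨k, ?_⟩
  rw [← Helper3.mem_ker_commHom hc, MonoidHom.mem_ker, map_mul, map_inv, map_zpow]
  apply Subtype.ext
  show ⁅x, g⁆ * ((((Helper3.commHom hc x y) ^ k : Subgroup.center G) : G))⁻¹ = 1
  rw [Subgroup.coe_zpow]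
  show ⁅x, g⁆ * (⁅x, y⁆ ^ k)⁻¹ = 1
  rw [hk', mul_inv_cancel]

namespace GEData

variable {U0 : Subgroup G} {w n : G}

theorem not_comm (D : GEData p U0 w n) : ¬ Commute w n := fun h => D.hn (D.cent n h)

theorem z_ne (D : GEData p U0 w n) : ⁅w, n⁆ ≠ 1 :=
  fun h => D.not_comm (commutatorElement_eq_one_iff_commute.1 h)

theorem z_center (D : GEData p U0 w n) : ⁅w, n⁆ ∈ Subgroup.center G :=
  D.comm_le (comm_mem_commutator w n)

theorem mem_zpowers_z (D : GEData p U0 w n) {c : G} (hc : c ∈ commutator G) :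
    c ∈ Subgroup.zpowers ⁅w, n⁆ :=
  mem_zpowers_of_mem_commutator D.card_comm (comm_mem_commutator w n) D.z_ne hc

theorem center_le (D : GEData p U0 w n) : Subgroup.center G ≤ U0 :=
  fun c hc => D.cent c (Subgroup.mem_center_iff.1 hc w)

theorem z_pow (D : GEData p U0 w n) : ⁅w, n⁆ ^ p = 1 := D.exp _ (D.center_le D.z_center)

theorem exists_U0 (D : GEData p U0 w n) (g : G) : ∃ k : ℤ, g * (n ^ k)⁻¹ ∈ U0 := by
  obtain ⟨k, hk⟩ := exists_zpow_commute D.comm_le D.card_comm D.not_comm g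
  exact ⟨k, D.cent _ hk⟩

theorem mem_center (D : GEData p U0 w n) {c : G} (hc : c ∈ U0) (hcn : Commute n c) :
    c ∈ Subgroup.center G := by
  rw [Subgroup.mem_center_iff]
  intro g
  obtain ⟨k, hk⟩ := D.exists_U0 g
  have h1 : Commute (g * (n ^ k)⁻¹) c := D.abel _ hk _ hc
  have h2 : Commute (n ^ k) c := hcn.zpow_left k
  have h3 : Commute (g * (n ^ k)⁻¹ * n ^ k) c := h1.mul_left h2
  rw [inv_mul_cancel_right] at h3
  exact h3

theorem exists_center (D : GEData p U0 w n) {u : G} (hu : u ∈ U0) :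
    ∃ i : ℤ, u * (w ^ i)⁻¹ ∈ Subgroup.center G := by
  obtain ⟨i, hi⟩ := exists_zpow_commute D.comm_le D.card_comm (x := n) (y := w)
    (fun h => D.not_comm h.symm) u
  exact ⟨i, D.mem_center (U0.mul_mem hu (U0.inv_mem (U0.zpow_mem D.hw i))) hi⟩

theorem normal_form (D : GEData p U0 w n) {e : G}
    (he : e ∈ Subgroup.closure ({w, n} : Set G)) :
    ∃ i j k : ℤ, e = w ^ i * ⁅w, n⁆ ^ j * n ^ k := by
  have hZn : (Subgroup.zpowers ⁅w, n⁆).Normal := by
    constructor
    intro x hx g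
    have hxc : x ∈ Subgroup.center G := by
      obtain ⟨j, rfl⟩ := hx
      exact (Subgroup.center G).zpow_mem D.z_center j
    have : g * x * g⁻¹ = x := by
      rw [Subgroup.mem_center_iff.1 hxc g, mul_inv_cancel_right]
    rwa [this]
  have hN0 : (Subgroup.zpowers w ⊔ Subgroup.zpowers ⁅w, n⁆).Normal := by
    constructor
    intro a ha g
    have : g * a * g⁻¹ = a * ⁅a⁻¹, g⁆ := by rw [commutatorElement_def]; group
    rw [this]
    exact Subgroup.mul_mem _ ha
      (Subgroup.mem_sup_right (D.mem_zpowers_z (comm_mem_commutator _ _)))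
  have hle : Subgroup.closure ({w, n} : Set G) ≤
      (Subgroup.zpowers w ⊔ Subgroup.zpowers ⁅w, n⁆) ⊔ Subgroup.zpowers n := by
    rw [Subgroup.closure_le]
    rintro x (rfl | hx)
    · exact Subgroup.mem_sup_left (Subgroup.mem_sup_left (Subgroup.mem_zpowers _))
    · rw [Set.mem_singleton_iff] at hx
      subst hx
      exact Subgroup.mem_sup_right (Subgroup.mem_zpowers _)
  have h1 := hle he
  rw [← SetLike.mem_coe, Subgroup.normal_mul] at h1
  obtain ⟨a, ha, b, hb, rfl⟩ := Set.mem_mul.1 h1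
  rw [Subgroup.mul_normal] at ha
  obtain ⟨a1, ⟨i, rfl⟩, a2, ⟨j, rfl⟩, rfl⟩ := Set.mem_mul.1 ha
  obtain ⟨k, rfl⟩ := hb
  exact ⟨i, j, k, rfl⟩

theorem mem_zpowers_of_commute (D : GEData p U0 w n) {e : G}
    (he : e ∈ Subgroup.closure ({w, n} : Set G)) (h1 : Commute w e) (h2 : Commute n e) :
    e ∈ Subgroup.zpowers ⁅w, n⁆ := by
  obtain ⟨i, j, k, rfl⟩ := D.normal_form he
  have hzU : ⁅w, n⁆ ∈ U0 := D.center_le D.z_center
  have ha : w ^ i * ⁅w, n⁆ ^ j ∈ U0 := U0.mul_mem (U0.zpow_mem D.hw i) (U0.zpow_mem hzU j)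
  have hb : n ^ k ∈ U0 := by
    have := U0.mul_mem (U0.inv_mem ha) (D.cent _ h1)
    rwa [inv_mul_cancel_left] at this
  have hb1 : n ^ k = 1 := eq_one_of_mem_zpowers_of_mem D.hnp U0 D.hn ⟨k, rfl⟩ hb
  rw [hb1, mul_one] at h2 ⊢
  have hzc : Commute n (⁅w, n⁆ ^ j) :=
    (show Commute n ⁅w, n⁆ from Subgroup.mem_center_iff.1 D.z_center n).zpow_right j
  have h3 : Commute n (w ^ i) := by
    have := h2.mul_right hzc.inv_right
    rwa [mul_inv_cancel_right] at this
  have hw1 : w ^ i = 1 :=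
    eq_one_of_mem_zpowers_of_mem (D.exp w D.hw) (Subgroup.centralizer {n})
      (fun h => D.not_comm (Subgroup.mem_centralizer_singleton_iff.1 h)) ⟨i, rfl⟩
      (Subgroup.mem_centralizer_singleton_iff.2 h3.eq.symm)
  rw [hw1, one_mul]
  exact ⟨j, rfl⟩

theorem w_mem : w ∈ Subgroup.closure ({w, n} : Set G) := Subgroup.subset_closure (by simp)

theorem n_mem : n ∈ Subgroup.closure ({w, n} : Set G) := Subgroup.subset_closure (by simp)

theorem z_mem : ⁅w, n⁆ ∈ Subgroup.closure ({w, n} : Set G) := by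
  rw [commutatorElement_def]
  exact Subgroup.mul_mem _ (Subgroup.mul_mem _ (Subgroup.mul_mem _ w_mem n_mem)
    (Subgroup.inv_mem _ w_mem)) (Subgroup.inv_mem _ n_mem)

theorem exists_decomp [Finite G] (D : GEData p U0 w n) :
    ∃ A0 : Subgroup G, A0 ≤ Subgroup.center G ∧
      Nonempty (G ≃* ↥(Subgroup.closure ({w, n} : Set G)) × ↥A0) := by
  let _ : CommGroup (Subgroup.center G) :=
    { (inferInstance : Group (Subgroup.center G)) with mul_comm := fun a b => mul_comm' a b }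
  have hexp : ∀ c : Subgroup.center G, c ^ p = 1 := fun c =>
    Subtype.ext (D.exp c (D.center_le c.2))
  obtain ⟨A, hzA, hA⟩ := exists_max_avoiding hexp ⟨⁅w, n⁆, D.z_center⟩
    (fun h => D.z_ne (congrArg Subtype.val h))
  set E0 := Subgroup.closure ({w, n} : Set G) with hE0
  have hwE : w ∈ E0 := w_mem
  have hnE : n ∈ E0 := n_mem
  have hzE : ⁅w, n⁆ ∈ E0 := z_mem
  let A0 : Subgroup G := A.map (Subgroup.center G).subtype
  have hA0 : A0 ≤ Subgroup.center G := by
    rintro _ ⟨c, -, rfl⟩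
    exact c.2
  let f : E0 × A0 →* G := E0.subtype.noncommCoprod A0.subtype
    (fun e a => (Subgroup.mem_center_iff.1 (hA0 a.2) e))
  have hf : ∀ x : E0 × A0, f x = x.1 * x.2 := fun x => rfl
  have hinj : Function.Injective f := by
    rw [injective_iff_map_eq_one]
    rintro ⟨e, a⟩ h
    rw [hf] at h
    have he : (e : G) = (a : G)⁻¹ := eq_inv_of_mul_eq_one_left h
    have heA : (e : G) ∈ A0 := he ▸ A0.inv_mem a.2
    have hec := hA0 heA
    have hez : (e : G) ∈ Subgroup.zpowers ⁅w, n⁆ :=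
      D.mem_zpowers_of_commute e.2 (Subgroup.mem_center_iff.1 hec w)
        (Subgroup.mem_center_iff.1 hec n)
    have he1 : (e : G) = 1 := by
      by_contra hne
      obtain ⟨k, hk⟩ := mem_zpowers_of_ne_one D.z_pow hez hne
      have hzA0 : ⁅w, n⁆ ∈ A0 := hk ▸ A0.zpow_mem heA k
      obtain ⟨c, hc, hcz⟩ := hzA0
      apply hzA
      have hcc : c = ⟨⁅w, n⁆, D.z_center⟩ := Subtype.ext hcz
      rwa [← hcc]
    have ha1 : (a : G) = 1 := by
      rw [he1] at he
      exact inv_eq_one.1 he.symm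
    exact Prod.ext (Subtype.ext he1) (Subtype.ext ha1)
  have hsurj : Function.Surjective f := by
    intro g
    obtain ⟨k, hk⟩ := D.exists_U0 g
    obtain ⟨i, hi⟩ := D.exists_center hk
    obtain ⟨a, ha, j, haj⟩ := hA ⟨_, hi⟩
    have haj' : g * (n ^ k)⁻¹ * (w ^ i)⁻¹ = (a : G) * ⁅w, n⁆ ^ j := by
      simpa using congrArg Subtype.val haj
    refine ⟨(⟨⁅w, n⁆ ^ j * w ^ i * n ^ k, ?_⟩, ⟨a, ⟨a, ha, rfl⟩⟩), ?_⟩
    · exact E0.mul_mem (E0.mul_mem (E0.zpow_mem hzE j) (E0.zpow_mem hwE i)) (E0.zpow_mem hnE k)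
    · rw [hf]
      show ⁅w, n⁆ ^ j * w ^ i * n ^ k * (a : G) = g
      rw [Subgroup.mem_center_iff.1 a.2]
      calc (a : G) * (⁅w, n⁆ ^ j * w ^ i * n ^ k)
          = ((a : G) * ⁅w, n⁆ ^ j) * w ^ i * n ^ k := by simp only [mul_assoc]
        _ = g := by rw [← haj']; group
  exact ⟨A0, hA0, ⟨(MulEquiv.ofBijective f ⟨hinj, hsurj⟩).symm⟩⟩

theorem mem_center_E0_iff (D : GEData p U0 w n) (e : ↥(Subgroup.closure ({w, n} : Set G))) :
    e ∈ Subgroup.center ↥(Subgroup.closure ({w, n} : Set G)) ↔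
      (e : G) ∈ Subgroup.zpowers ⁅w, n⁆ := by
  constructor
  · intro he
    rw [Subgroup.mem_center_iff] at he
    have h1 := congrArg Subtype.val (he ⟨w, w_mem⟩)
    have h2 := congrArg Subtype.val (he ⟨n, n_mem⟩)
    exact D.mem_zpowers_of_commute e.2 h1 h2
  · intro he
    have hc : (e : G) ∈ Subgroup.center G := by
      obtain ⟨j, hj⟩ := he
      rw [← hj]
      exact (Subgroup.center G).zpow_mem D.z_center j
    rw [Subgroup.mem_center_iff]
    intro g
    exact Subtype.ext (Subgroup.mem_center_iff.1 hc g)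

theorem mem_commutator_E0_iff (D : GEData p U0 w n) (e : ↥(Subgroup.closure ({w, n} : Set G))) :
    e ∈ commutator ↥(Subgroup.closure ({w, n} : Set G)) ↔
      (e : G) ∈ Subgroup.zpowers ⁅w, n⁆ := by
  constructor
  · intro he
    have hle : (commutator ↥(Subgroup.closure ({w, n} : Set G))).map
        (Subgroup.closure ({w, n} : Set G)).subtype ≤ commutator G := by
      rw [commutator_def, Subgroup.map_commutator, commutator_def]
      exact Subgroup.commutator_mono le_top le_top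
    exact D.mem_zpowers_z (hle ⟨e, he, rfl⟩)
  · rintro ⟨j, hj⟩
    have he : e = ⁅(⟨w, w_mem⟩ : ↥(Subgroup.closure ({w, n} : Set G))), ⟨n, n_mem⟩⁆ ^ j := by
      apply Subtype.ext
      rw [Subgroup.coe_zpow]
      exact hj.symm
    rw [he]
    exact Subgroup.zpow_mem _ (comm_mem_commutator _ _) j

theorem commutator_E0_eq_center (D : GEData p U0 w n) :
    commutator ↥(Subgroup.closure ({w, n} : Set G)) =
      Subgroup.center ↥(Subgroup.closure ({w, n} : Set G)) := by
  ext e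
  rw [D.mem_commutator_E0_iff, D.mem_center_E0_iff]

theorem card_center_E0 (D : GEData p U0 w n) :
    Nat.card (Subgroup.center ↥(Subgroup.closure ({w, n} : Set G))) = p := by
  have h1 : Nat.card (Subgroup.zpowers ⁅w, n⁆) = p := by
    rw [Nat.card_zpowers]
    exact orderOf_eq_prime D.z_pow D.z_ne
  rw [← h1]
  have hle : Subgroup.zpowers ⁅w, n⁆ ≤ Subgroup.closure ({w, n} : Set G) := by
    rw [Subgroup.zpowers_le]
    exact z_mem
  exact Nat.card_congr ⟨fun e => ⟨e.1.1, (D.mem_center_E0_iff e.1).1 e.2⟩,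
    fun c => ⟨⟨c.1, hle c.2⟩, (D.mem_center_E0_iff _).2 c.2⟩, fun e => rfl, fun c => rfl⟩

theorem card_E0 (D : GEData p U0 w n) :
    Nat.card ↥(Subgroup.closure ({w, n} : Set G)) = p ^ 3 := by
  have hc := D.commutator_E0_eq_center.le
  have hxy : ¬ Commute (⟨w, w_mem⟩ : ↥(Subgroup.closure ({w, n} : Set G))) ⟨n, n_mem⟩ :=
    fun h => D.not_comm (congrArg Subtype.val h.eq)
  rw [Helper3.card_eq_sq_mul_card_ker hc D.card_center_E0 _ _ hxy]
  have hker : (Helper3.commHom₂ hc (⟨w, w_mem⟩ : ↥(Subgroup.closure ({w, n} : Set G)))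
      ⟨n, n_mem⟩).ker = Subgroup.center ↥(Subgroup.closure ({w, n} : Set G)) := by
    ext e
    rw [Helper3.mem_ker_commHom₂, D.mem_center_E0_iff]
    constructor
    · rintro ⟨h1, h2⟩
      exact D.mem_zpowers_of_commute e.2 (congrArg Subtype.val h1.eq) (congrArg Subtype.val h2.eq)
    · intro he
      have h3 := (D.mem_center_E0_iff e).2 he
      rw [Subgroup.mem_center_iff] at h3
      exact ⟨h3 _, h3 _⟩
  rw [hker, D.card_center_E0]
  ring

theorem pow_eq_one_E0 (D : GEData p U0 w n) (hp2 : p ≠ 2) {e : G}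
    (he : e ∈ Subgroup.closure ({w, n} : Set G)) : e ^ p = 1 := by
  apply Helper3.omega_one_exponent_class_two Fact.out hp2
    (Helper3.class_two_of_commutator_le_center D.comm_le)
  refine Subgroup.closure_mono ?_ he
  rintro x (rfl | hx)
  · exact D.exp _ D.hw
  · rw [Set.mem_singleton_iff] at hx
    subst hx
    exact D.hnp

theorem isExtraspecial_E0 [Finite G] (D : GEData p U0 w n) (hG : IsPGroup p G) (hp2 : p ≠ 2) :
    Cfsg.IsExtraspecial p ↥(Subgroup.closure ({w, n} : Set G)) := by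
  refine Helper67.isExtraspecial_of_commutator_eq_center (hG.to_subgroup _)
    D.commutator_E0_eq_center D.card_center_E0 (fun x => ?_)
  have : x ^ p = 1 := Subtype.ext (D.pow_eq_one_E0 hp2 x.2)
  rw [this]
  exact Subgroup.one_mem _

theorem exponent_E0 (D : GEData p U0 w n) (hp2 : p ≠ 2) :
    Monoid.exponent ↥(Subgroup.closure ({w, n} : Set G)) = p := by
  have h1 : Monoid.exponent ↥(Subgroup.closure ({w, n} : Set G)) ∣ p :=
    Monoid.exponent_dvd_of_forall_pow_eq_one (fun x => Subtype.ext (D.pow_eq_one_E0 hp2 x.2))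
  rcases (Nat.dvd_prime Fact.out).1 h1 with h | h
  · exfalso
    have h2 := Monoid.pow_exponent_eq_one (⟨w, w_mem⟩ : ↥(Subgroup.closure ({w, n} : Set G)))
    rw [h, pow_one] at h2
    have hw1 : w = 1 := congrArg Subtype.val h2
    exact D.not_comm (hw1 ▸ Commute.one_left n)
  · exact h

/-- Structure theorem, `p` odd. -/
theorem struct_odd [Finite G] (D : GEData p U0 w n) (hG : IsPGroup p G) (hp2 : p ≠ 2) :
    ∃ (E : Type) (_ : Group E) (A : Type) (_ : CommGroup A), Cfsg.IsExtraspecial p E ∧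
      Nat.card E = p ^ 3 ∧ Monoid.exponent E = p ∧ (∀ a : A, a ^ p = 1) ∧
      Nonempty (G ≃* E × A) := by
  obtain ⟨A0, hA0, ⟨f⟩⟩ := D.exists_decomp
  obtain ⟨E, iE, ⟨e1⟩⟩ := exists_type_group ↥(Subgroup.closure ({w, n} : Set G))
  obtain ⟨A, iA, ⟨e2⟩⟩ := exists_type_commGroup ↥A0
    (fun a b => Subtype.ext (Subgroup.mem_center_iff.1 (hA0 b.2) a))
  refine ⟨E, iE, A, iA, Helper67.isExtraspecial_of_mulEquiv e1 (D.isExtraspecial_E0 hG hp2), ?_, ?_,
    ?_, ⟨f.trans (e1.prodCongr e2)⟩⟩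
  · rw [← Nat.card_congr e1.toEquiv, D.card_E0]
  · rw [← Monoid.exponent_eq_of_mulEquiv e1, D.exponent_E0 hp2]
  · intro a
    obtain ⟨b, rfl⟩ := e2.surjective a
    rw [← map_pow]
    have : b ^ p = 1 := Subtype.ext (D.exp _ (D.center_le (hA0 b.2)))
    rw [this, map_one]

end GEData

/-- Structure theorem, `p = 2`. -/
theorem GEData.struct_two {G : Type*} [Group G] [Finite G] {U0 : Subgroup G} {w n : G}
    (D : GEData 2 U0 w n) :
    ∃ (A : Type) (_ : CommGroup A), (∀ a : A, a ^ 2 = 1) ∧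
      Nonempty (G ≃* DihedralGroup 4 × A) := by
  have : Fact (Nat.Prime 2) := ⟨Nat.prime_two⟩
  obtain ⟨A0, hA0, ⟨f⟩⟩ := D.exists_decomp
  obtain ⟨A, iA, ⟨e2⟩⟩ := exists_type_commGroup ↥A0
    (fun a b => Subtype.ext (Subgroup.mem_center_iff.1 (hA0 b.2) a))
  have hw1 : w ≠ 1 := fun h => D.not_comm (h ▸ Commute.one_left n)
  have hn1 : n ≠ 1 := fun h => D.hn (h ▸ U0.one_mem)
  have hw2 : orderOf w = 2 := orderOf_eq_prime (D.exp w D.hw) hw1
  have hn2 : orderOf n = 2 := orderOf_eq_prime D.hnp hn1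
  have hwi : w⁻¹ = w := by
    rw [inv_eq_iff_mul_eq_one, ← pow_two]
    exact D.exp w D.hw
  have hni : n⁻¹ = n := by
    rw [inv_eq_iff_mul_eq_one, ← pow_two]
    exact D.hnp
  have hsq : (w * n) ^ 2 = ⁅w, n⁆ := by
    rw [commutatorElement_def, hwi, hni, pow_two]
    simp only [mul_assoc]
  have h4 : orderOf (w * n) = 4 := by
    have h5 : orderOf (w * n) = 2 ^ 2 := by
      apply orderOf_eq_prime_pow
      · rw [pow_one, hsq]
        exact D.z_ne
      · rw [pow_succ 2 1, pow_one, pow_mul, hsq]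
        exact D.z_pow
    rw [h5]
    norm_num
  have e1 := Helper5.dihEquiv hw2 hn2
  rw [h4] at e1
  refine ⟨A, iA, ?_, ⟨f.trans (e1.prodCongr e2)⟩⟩
  intro a
  obtain ⟨b, rfl⟩ := e2.surjective a
  rw [← map_pow]
  have : b ^ 2 = 1 := Subtype.ext (D.exp _ (D.center_le (hA0 b.2)))
  rw [this, map_one]

/-- For `p = 2` the element `n` can be replaced by an involution. -/
theorem GEData.exists_of_sq {G : Type*} [Group G] {U0 : Subgroup G} {w n : G}
    (comm_le : commutator G ≤ Subgroup.center G) (card_comm : Nat.card (commutator G) = 2)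
    (abel : ∀ x ∈ U0, ∀ y ∈ U0, x * y = y * x) (exp : ∀ x ∈ U0, x ^ 2 = 1) (hw : w ∈ U0)
    (cent : ∀ g, Commute w g → g ∈ U0) (hn : n ∉ U0) (hsq : n ^ 2 ∈ commutator G) :
    ∃ n', GEData 2 U0 w n' := by
  have : Fact (Nat.Prime 2) := ⟨Nat.prime_two⟩
  by_cases h : n ^ 2 = 1
  · exact ⟨n, comm_le, card_comm, abel, exp, hw, cent, hn, h⟩
  · refine ⟨w * n, comm_le, card_comm, abel, exp, hw, cent, fun h1 => hn ?_, ?_⟩
    · have := U0.mul_mem (U0.inv_mem hw) h1
      rwa [inv_mul_cancel_left] at this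
    · have hc1 : ⁅w, n⁆ ≠ 1 := fun h1 => hn (cent n (commutatorElement_eq_one_iff_commute.1 h1))
      have hcU : ∀ c ∈ commutator G, c ^ 2 = 1 := fun c hc =>
        exp c (cent c (Subgroup.mem_center_iff.1 (comm_le hc) w))
      obtain ⟨k, hk⟩ := mem_zpowers_of_mem_commutator card_comm (comm_mem_commutator w n) hc1 hsq
      have hk' : ⁅w, n⁆ ^ k = n ^ 2 := hk
      have hc2 : ⁅w, n⁆ ^ (2 : ℤ) = 1 := by
        have := hcU _ (comm_mem_commutator w n)
        rwa [← zpow_natCast] at this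
      have heq : ⁅w, n⁆ = n ^ 2 := by
        rcases Int.even_or_odd' k with ⟨m, rfl | rfl⟩
        · exfalso
          apply h
          rw [← hk', zpow_mul, hc2, one_zpow]
        · rw [← hk', zpow_add, zpow_mul, hc2, one_zpow, one_mul, zpow_one]
      have hwi : w⁻¹ = w := by
        rw [inv_eq_iff_mul_eq_one, ← pow_two]
        exact exp w hw
      rw [commutatorElement_def, hwi] at heq
      have h4 : (n ^ 2) ^ 2 = 1 := hcU _ hsq
      calc (w * n) ^ 2 = (w * n * w * n⁻¹) * n * n := by rw [pow_two]; group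
        _ = (n ^ 2) ^ 2 := by rw [heq]; group
        _ = 1 := h4

end Struct

end Cfsg.Agent.Lib.Helper89
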