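import Mathlib
import Cfsg.Agent.Lib.Helper89.ChainStab
import Cfsg.Agent.Lib.Helper89.GenExtraStruct

set_option autoImplicit false

namespace Cfsg.Agent.Lib.Helper89

/-- natural-number version of `mem_zpowers_of_ne_one`. -/
theorem exists_pow_eq_of_ne_one {G : Type*} [Group G] {p : ℕ} [Fact p.Prime] {x y : G}
    (hx : x ^ p = 1) (hy : y ∈ Subgroup.zpowers x) (hy1 : y ≠ 1) : ∃ m : ℕ, y ^ m = x := by
  have h1 := mem_zpowers_of_ne_one hx hy hy1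
  have hyp : y ^ p = 1 := by
    obtain ⟨k, rfl⟩ := hy
    show (x ^ k) ^ p = 1
    rw [← zpow_natCast, ← zpow_mul, mul_comm, zpow_mul, zpow_natCast, hx, one_zpow]
  have hfin : IsOfFinOrder y := isOfFinOrder_iff_pow_eq_one.2 ⟨p, (Fact.out : p.Prime).pos, hyp⟩
  exact hfin.mem_powers_iff_mem_zpowers.2 h1

/-- Two "transvections" `t`, `t1` of an abelian group with centres `z`, `z1` not fixed by the other
one: the group is generated by `z`, `z1` and the common fixed points. -/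
theorem exists_fixed_decomp {V : Type*} [CommGroup V] {p : ℕ} [Fact p.Prime] (t t1 : V →* V)
    (z z1 : V) (ht : ∀ x, ∃ k : ℤ, t x = x * z ^ k) (ht1 : ∀ x, ∃ k : ℤ, t1 x = x * z1 ^ k)
    (htz : t z = z) (ht1z1 : t1 z1 = z1) (hzp : z ^ p = 1) (hz1p : z1 ^ p = 1)
    (h1 : t z1 ≠ z1) (h2 : t1 z ≠ z) (x : V) :
    ∃ (k l : ℤ) (d : V), x = z ^ k * z1 ^ l * d ∧ t d = d ∧ t1 d = d := by
  obtain ⟨a, ha⟩ := ht z1
  obtain ⟨b, hb⟩ := ht1 z
  have ha1 : z ^ a ≠ 1 := fun h => h1 (by rw [ha, h, mul_one])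
  have hb1 : z1 ^ b ≠ 1 := fun h => h2 (by rw [hb, h, mul_one])
  obtain ⟨c, hc⟩ := mem_zpowers_of_ne_one hzp ⟨a, rfl⟩ ha1
  obtain ⟨c', hc'⟩ := mem_zpowers_of_ne_one hz1p ⟨b, rfl⟩ hb1
  obtain ⟨m, hm⟩ := ht x
  obtain ⟨m', hm'⟩ := ht1 x
  have hc2 : (z ^ a) ^ c = z := hc
  have hc2' : (z1 ^ b) ^ c' = z1 := hc'
  have e1 : (z ^ a) ^ (c * m) = z ^ m := by rw [zpow_mul, hc2]
  have e2 : (z1 ^ b) ^ (c' * m') = z1 ^ m' := by rw [zpow_mul, hc2']
  refine ⟨c' * m', c * m, x / (z ^ (c' * m') * z1 ^ (c * m)), ?_, ?_, ?_⟩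
  · rw [mul_div_cancel]
  · rw [map_div, map_mul, map_zpow, map_zpow, htz, ha, hm, mul_zpow, e1, ← mul_assoc,
      mul_div_mul_right_eq_div]
  · rw [map_div, map_mul, map_zpow, map_zpow, ht1z1, hb, hm', mul_zpow, e2, mul_right_comm,
      mul_div_mul_right_eq_div]

theorem pow_apply_fixed {U : Type*} [Group U] (δ : MulAut U) (x : U) (hx : δ x = x) (m : ℕ) :
    (δ ^ m) x = x := by
  have := pow_apply_of_fixed δ x 1 (by rw [hx, mul_one]) (map_one δ) m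
  rwa [one_pow, mul_one] at this

/-- The central involution of `SL₂(p)` generated by two transvections. -/
theorem exists_inverting {U : Type*} [Group U] {p : ℕ} [Fact p.Prime] (U0 : Subgroup U)
    (hab : ∀ x ∈ U0, ∀ y ∈ U0, x * y = y * x) (t t1 : MulAut U) (z z1 : U) (hz : z ∈ U0)
    (hz1 : z1 ∈ U0) (ht : ∀ x ∈ U0, ∃ k : ℤ, t x = x * z ^ k)
    (ht1 : ∀ x ∈ U0, ∃ k : ℤ, t1 x = x * z1 ^ k)
    (htz : t z = z) (ht1z1 : t1 z1 = z1) (hzp : z ^ p = 1) (hz1p : z1 ^ p = 1)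
    (h1 : t z1 ≠ z1) (h2 : t1 z ≠ z) :
    ∃ h ∈ Subgroup.closure ({t, t1} : Set (MulAut U)), h z = z⁻¹ ∧
      ∀ x ∈ U0, h (t x) = t (h x) := by
  obtain ⟨a, ha⟩ := ht z1 hz1
  obtain ⟨b, hb⟩ := ht1 z hz
  have ha1 : z ^ a ≠ 1 := fun h => h1 (by rw [ha, h, mul_one])
  have hb1 : z1 ^ b ≠ 1 := fun h => h2 (by rw [hb, h, mul_one])
  obtain ⟨i, hi⟩ := exists_pow_eq_of_ne_one hzp ⟨a, rfl⟩ ha1
  have hz1p' : (z1⁻¹) ^ p = 1 := by rw [inv_pow, hz1p, inv_one]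
  obtain ⟨j, hj⟩ := exists_pow_eq_of_ne_one (x := z1⁻¹) (y := z1 ^ b) hz1p'
    (by rw [Subgroup.zpowers_inv]; exact ⟨b, rfl⟩) hb1
  have hi' : (z ^ a) ^ i = z := hi
  have hj' : (z1 ^ b) ^ j = z1⁻¹ := hj
  have hTz1 : (t ^ i) z1 = z1 * z := by
    rw [pow_apply_of_fixed t z1 (z ^ a) ha (by rw [map_zpow, htz]) i, hi']
  have hTz : (t ^ i) z = z := pow_apply_fixed t z htz i
  have hLz : (t1 ^ j) z = z * z1⁻¹ := by
    rw [pow_apply_of_fixed t1 z (z1 ^ b) hb (by rw [map_zpow, ht1z1]) j, hj']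
  have hLz1 : (t1 ^ j) z1 = z1 := pow_apply_fixed t1 z1 ht1z1 j
  have hWz : (t ^ i * t1 ^ j * t ^ i) z = z1⁻¹ := by
    show (t ^ i) ((t1 ^ j) ((t ^ i) z)) = _
    rw [hTz, hLz, map_mul, map_inv, hTz, hTz1]
    group
  have hWz1 : (t ^ i * t1 ^ j * t ^ i) z1 = z := by
    show (t ^ i) ((t1 ^ j) ((t ^ i) z1)) = _
    rw [hTz1, map_mul, hLz1, hLz, ← mul_assoc, hab z1 hz1 z hz, mul_inv_cancel_right, hTz]
  have hWd : ∀ d, t d = d → t1 d = d → (t ^ i * t1 ^ j * t ^ i) d = d := by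
    intro d h3 h4
    show (t ^ i) ((t1 ^ j) ((t ^ i) d)) = _
    rw [pow_apply_fixed t d h3 i, pow_apply_fixed t1 d h4 j, pow_apply_fixed t d h3 i]
  have htm : t ∈ Subgroup.closure ({t, t1} : Set (MulAut U)) := Subgroup.subset_closure (by simp)
  have ht1m : t1 ∈ Subgroup.closure ({t, t1} : Set (MulAut U)) :=
    Subgroup.subset_closure (by simp)
  have hWm : t ^ i * t1 ^ j * t ^ i ∈ Subgroup.closure ({t, t1} : Set (MulAut U)) :=
    Subgroup.mul_mem _ (Subgroup.mul_mem _ (Subgroup.pow_mem _ htm i) (Subgroup.pow_mem _ ht1m j))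
      (Subgroup.pow_mem _ htm i)
  set W := t ^ i * t1 ^ j * t ^ i with hW
  have hhz : (W * W) z = z⁻¹ := by
    show W (W z) = _
    rw [hWz, map_inv, hWz1]
  have hhz1 : (W * W) z1 = z1⁻¹ := by
    show W (W z1) = _
    rw [hWz1, hWz]
  have hhd : ∀ d, t d = d → t1 d = d → (W * W) d = d := by
    intro d h3 h4
    show W (W d) = _
    rw [hWd d h3 h4, hWd d h3 h4]
  refine ⟨W * W, Subgroup.mul_mem _ hWm hWm, hhz, fun x hx => ?_⟩
  -- decomposition of `x`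
  have htU : ∀ y : U0, t y ∈ U0 := by
    intro y
    obtain ⟨k, hk⟩ := ht y y.2
    rw [hk]
    exact U0.mul_mem y.2 (U0.zpow_mem hz k)
  have ht1U : ∀ y : U0, t1 y ∈ U0 := by
    intro y
    obtain ⟨k, hk⟩ := ht1 y y.2
    rw [hk]
    exact U0.mul_mem y.2 (U0.zpow_mem hz1 k)
  let _ : CommGroup U0 :=
    { (inferInstance : Group U0) with mul_comm := fun u v => Subtype.ext (hab u u.2 v v.2) }
  let tr : U0 →* U0 := (t.toMonoidHom.comp U0.subtype).codRestrict U0 htU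
  let tr1 : U0 →* U0 := (t1.toMonoidHom.comp U0.subtype).codRestrict U0 ht1U
  obtain ⟨k, l, d, hxd, htd, ht1d⟩ := exists_fixed_decomp (p := p) tr tr1 ⟨z, hz⟩ ⟨z1, hz1⟩
    (fun y => by
      obtain ⟨k, hk⟩ := ht y y.2
      exact ⟨k, Subtype.ext (by simpa [tr] using hk)⟩)
    (fun y => by
      obtain ⟨k, hk⟩ := ht1 y y.2
      exact ⟨k, Subtype.ext (by simpa [tr1] using hk)⟩)
    (Subtype.ext htz) (Subtype.ext ht1z1) (Subtype.ext hzp) (Subtype.ext hz1p)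
    (fun h => h1 (congrArg Subtype.val h)) (fun h => h2 (congrArg Subtype.val h)) ⟨x, hx⟩
  have hxd' : x = z ^ k * z1 ^ l * (d : U) := by
    simpa using congrArg Subtype.val hxd
  have htd' : t (d : U) = d := congrArg Subtype.val htd
  have ht1d' : t1 (d : U) = d := congrArg Subtype.val ht1d
  have hcomm : z1 * z ^ a = z ^ a * z1 := hab z1 hz1 _ (U0.zpow_mem hz a)
  rw [hxd']
  simp only [map_mul, map_zpow, map_inv, htz, ha, hhz, hhz1, htd', hhd _ htd' ht1d']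
  rw [hcomm, mul_inv_rev, inv_zpow z a]

end Cfsg.Agent.Lib.Helper89
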