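import Mathlib

set_option autoImplicit false

namespace Cfsg.Agent.Lib.Helper89

variable {V : Type*} [Group V]

/-- `h` is a reflection of the abelian group `V = C × D`: it inverts `C` and centralizes `D`. -/
structure IsRefl (C D : Subgroup V) (h : MulAut V) : Prop where
  inv : ∀ c ∈ C, h c = c⁻¹
  fix : ∀ d ∈ D, h d = d
  dec : ∀ u, ∃ c ∈ C, ∃ d ∈ D, u = c * d

/-- Two reflections with the same centre, in a group of automorphisms in which the stabilizer of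
`1 ≤ C ≤ V` is trivial, have the same axis. -/
theorem IsRefl.le {p : ℕ} (hp : Odd p) (hab : ∀ x y : V, x * y = y * x)
    (G : Subgroup (MulAut V)) (C : Subgroup V)
    (H0 : ∀ f ∈ G, (∀ c ∈ C, f c = c) → (∀ u, u⁻¹ * f u ∈ C) → f = 1)
    (hCp : ∀ c ∈ C, c ^ p = 1) {h h' : MulAut V} (hh : h ∈ G) (hh' : h' ∈ G) {D D' : Subgroup V}
    (R : IsRefl C D h) (R' : IsRefl C D' h') : D' ≤ D := by
  have hf : h * h' = 1 := by
    refine H0 _ (G.mul_mem hh hh') (fun c hc => ?_) (fun u => ?_)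
    · show h (h' c) = c
      rw [R'.inv c hc, R.inv _ (C.inv_mem hc), inv_inv]
    · obtain ⟨c', hc', d', hd', rfl⟩ := R'.dec u
      obtain ⟨c, hc, d, hd, rfl⟩ := R.dec d'
      show _ * h (h' (c' * (c * d))) ∈ C
      rw [map_mul h', R'.inv c' hc', R'.fix _ hd', map_mul, map_mul, R.inv _ (C.inv_mem hc'),
        R.inv c hc, R.fix d hd, inv_inv]
      have e : (c' * (c * d))⁻¹ * (c' * (c⁻¹ * d)) = c⁻¹ * c⁻¹ := by
        rw [mul_inv_rev, mul_inv_rev, mul_assoc, inv_mul_cancel_left, hab c⁻¹ d, mul_assoc,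
          ← mul_assoc c⁻¹, hab c⁻¹ d, mul_assoc, inv_mul_cancel_left]
      rw [e]
      exact C.mul_mem (C.inv_mem hc) (C.inv_mem hc)
  intro d' hd'
  have h1 : h d' = d' := by
    have : (h * h') d' = d' := by rw [hf]; rfl
    rwa [MulAut.mul_apply, R'.fix d' hd'] at this
  obtain ⟨c, hc, d, hd, rfl⟩ := R.dec d'
  rw [map_mul, R.inv c hc, R.fix d hd] at h1
  have h2 : c⁻¹ = c := mul_right_cancel h1
  have h3 : c ^ 2 = 1 := by
    rw [pow_two]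
    nth_rewrite 1 [← h2]
    exact inv_mul_cancel c
  have h4 : c = 1 := by
    obtain ⟨m, hm⟩ := hp
    have := hCp c hc
    rwa [hm, pow_succ, pow_mul, h3, one_pow, one_mul] at this
  rw [h4, one_mul]
  exact hd

theorem IsRefl.conj {C D : Subgroup V} {h : MulAut V} (R : IsRefl C D h) (δ : MulAut V)
    (hδ : ∀ c ∈ C, δ c ∈ C) (hδ' : ∀ c ∈ C, δ⁻¹ c ∈ C) :
    IsRefl C (D.map δ.toMonoidHom) (δ * h * δ⁻¹) := by
  refine ⟨fun c hc => ?_, ?_, fun u => ?_⟩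
  · show δ (h (δ⁻¹ c)) = c⁻¹
    rw [R.inv _ (hδ' c hc), map_inv, MulAut.apply_inv_self]
  · rintro _ ⟨d, hd, rfl⟩
    show δ (h (δ⁻¹ (δ d))) = δ d
    rw [MulAut.inv_apply_self, R.fix d hd]
  · obtain ⟨c, hc, d, hd, e⟩ := R.dec (δ⁻¹ u)
    refine ⟨δ c, hδ c hc, δ d, ⟨d, hd, rfl⟩, ?_⟩
    rw [← map_mul, ← e, MulAut.apply_inv_self]

/-- The axis of a reflection is invariant under every element of `G` normalizing the centre. -/
theorem IsRefl.map_mem {p : ℕ} (hp : Odd p) (hab : ∀ x y : V, x * y = y * x)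
    (G : Subgroup (MulAut V)) (C : Subgroup V)
    (H0 : ∀ f ∈ G, (∀ c ∈ C, f c = c) → (∀ u, u⁻¹ * f u ∈ C) → f = 1)
    (hCp : ∀ c ∈ C, c ^ p = 1) {h : MulAut V} (hh : h ∈ G) {D : Subgroup V}
    (R : IsRefl C D h) {δ : MulAut V} (hδG : δ ∈ G) (hδ : ∀ c ∈ C, δ c ∈ C)
    (hδ' : ∀ c ∈ C, δ⁻¹ c ∈ C) {d : V} (hd : d ∈ D) : δ d ∈ D :=
  IsRefl.le hp hab G C H0 hCp hh (G.mul_mem (G.mul_mem hδG hh) (G.inv_mem hδG)) R
    (R.conj δ hδ hδ') ⟨d, hd, rfl⟩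

end Cfsg.Agent.Lib.Helper89
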