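import Mathlib
import Cfsg.Agent.Lib.Helper87.SylIn
import Cfsg.Agent.Lib.Helper89.GenExtraChain
import Cfsg.Agent.Lib.Helper89.GenExtraSL2

set_option autoImplicit false

namespace Cfsg.Agent.Lib.Helper89

open Cfsg.Agent.Lib.Helper87

variable {U : Type*} [Group U]

/-- The subgroup of fixed points of an automorphism. -/
def fixSub (τ : MulAut U) : Subgroup U where
  carrier := {u | τ u = u}
  one_mem' := map_one τ
  mul_mem' := by
    intro a b ha hb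
    show τ (a * b) = a * b
    rw [map_mul, ha, hb]
  inv_mem' := by
    intro a ha
    show τ a⁻¹ = a⁻¹
    rw [map_inv, ha]

theorem mem_fixSub (τ : MulAut U) (u : U) : u ∈ fixSub τ ↔ τ u = u := Iff.rfl

/-- A group `Γ` of automorphisms with a Sylow `p`-subgroup `T` all of whose nontrivial elements have
the same fixed points `Y` and act trivially on `U / Y`. -/
structure TVData (p : ℕ) (Γ T : Subgroup (MulAut U)) (Y : Subgroup U) : Prop where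
  syl : IsSylIn p T Γ
  fix : ∀ t ∈ T, ∀ u ∈ Y, t u = u
  fix' : ∀ t ∈ T, t ≠ 1 → ∀ u, t u = u → u ∈ Y
  quot : ∀ t ∈ T, ∀ u, u⁻¹ * t u ∈ Y

/-- `τ` is a nontrivial element of `Γ` conjugate into `T`. -/
def IsTV (Γ T : Subgroup (MulAut U)) (τ : MulAut U) : Prop :=
  τ ∈ Γ ∧ τ ≠ 1 ∧ ∃ δ ∈ Γ, δ * τ * δ⁻¹ ∈ T

namespace TVData

variable {p : ℕ} {Γ T : Subgroup (MulAut U)} {Y : Subgroup U}

theorem fix_iff (D : TVData p Γ T Y) {τ δ : MulAut U} (hτ : τ ≠ 1) (h : δ * τ * δ⁻¹ ∈ T) (u : U) :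
    τ u = u ↔ δ u ∈ Y := by
  have hne : δ * τ * δ⁻¹ ≠ 1 := by
    intro h1
    apply hτ
    have : τ = δ⁻¹ * (δ * τ * δ⁻¹) * δ := by group
    rw [this, h1]
    group
  have e : (δ * τ * δ⁻¹) (δ u) = δ (τ u) := by
    simp [MulAut.mul_apply]
  constructor
  · intro hu
    apply D.fix' _ h hne
    rw [e, hu]
  · intro hu
    have := D.fix _ h _ hu
    rw [e] at this
    exact δ.injective this

theorem fix_comm (D : TVData p Γ T Y) {τ : MulAut U} (hτ : IsTV Γ T τ) (u : U) :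
    τ (u⁻¹ * τ u) = u⁻¹ * τ u := by
  obtain ⟨-, hne, δ, -, h⟩ := hτ
  rw [D.fix_iff hne h]
  have := D.quot _ h (δ u)
  have e : (δ * τ * δ⁻¹) (δ u) = δ (τ u) := by
    simp [MulAut.mul_apply]
  rw [e] at this
  rwa [map_mul, map_inv]

/-- The one-sided lemma: if `τ₂` centralizes `[U, τ₁]` then `τ₁` and `τ₂` have the same fixed
points. -/
theorem fix_eq [Fact p.Prime] [Finite U] (hU : IsPGroup p U) (D : TVData p Γ T Y)
    {τ₁ τ₂ : MulAut U} (h₁ : IsTV Γ T τ₁) (h₂ : IsTV Γ T τ₂)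
    (h : ∀ u, τ₂ (u⁻¹ * τ₁ u) = u⁻¹ * τ₁ u) (u : U) : τ₁ u = u ↔ τ₂ u = u := by
  have H1 : StabChain (chain4 (fixSub τ₁ ⊓ fixSub τ₂) (fixSub τ₂) (fixSub τ₂)) 4 τ₁ := by
    refine stabChain4 inf_le_right le_rfl τ₁ (fun x hx => hx.1) (fun x _ => ⟨?_, h x⟩)
      (fun x _ => h x) (fun x => h x)
    exact D.fix_comm h₁ x
  have H2 : StabChain (chain4 (fixSub τ₁ ⊓ fixSub τ₂) (fixSub τ₂) (fixSub τ₂)) 4 τ₂ := by
    refine stabChain4 inf_le_right le_rfl τ₂ (fun x hx => hx.2) (fun x hx => ?_)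
      (fun x hx => ?_) (fun x => D.fix_comm h₂ x)
    · have hx' : τ₂ x = x := hx
      rw [hx', inv_mul_cancel]
      exact Subgroup.one_mem _
    · have hx' : τ₂ x = x := hx
      rw [hx', inv_mul_cancel]
      exact Subgroup.one_mem _
  have hLp : IsPGroup p (Subgroup.closure ({τ₁, τ₂} : Set (MulAut U))) := by
    refine isPGroup_closure_of_stabChain hU
      (chain4 (fixSub τ₁ ⊓ fixSub τ₂) (fixSub τ₂) (fixSub τ₂)) 4 rfl rfl _ ?_
    rintro a (rfl | ha)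
    · exact H1
    · rw [Set.mem_singleton_iff] at ha
      rw [ha]
      exact H2
  have hL : Subgroup.closure ({τ₁, τ₂} : Set (MulAut U)) ≤ Γ := by
    rw [Subgroup.closure_le]
    rintro a (rfl | ha)
    · exact h₁.1
    · rw [Set.mem_singleton_iff] at ha
      rw [ha]
      exact h₂.1
  obtain ⟨δ, -, hconj⟩ := D.syl.exists_conj hL hLp
  rw [D.fix_iff h₁.2.1 (hconj τ₁ (Subgroup.subset_closure (by simp))),
    D.fix_iff h₂.2.1 (hconj τ₂ (Subgroup.subset_closure (by simp)))]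

end TVData

theorem IsTV.conj {Γ T : Subgroup (MulAut U)} {τ g : MulAut U} (h : IsTV Γ T τ) (hg : g ∈ Γ) :
    IsTV Γ T (g * τ * g⁻¹) := by
  obtain ⟨h1, h2, δ, hδ, h3⟩ := h
  refine ⟨Γ.mul_mem (Γ.mul_mem hg h1) (Γ.inv_mem hg), ?_, δ * g⁻¹,
    Γ.mul_mem hδ (Γ.inv_mem hg), ?_⟩
  · intro h4
    apply h2
    have : τ = g⁻¹ * (g * τ * g⁻¹) * g := by group
    rw [this, h4]
    group
  · have : δ * g⁻¹ * (g * τ * g⁻¹) * (δ * g⁻¹)⁻¹ = δ * τ * δ⁻¹ := by group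
    rw [this]
    exact h3

theorem conj_tv_apply {τ g : MulAut U} {z : U} (h : ∀ u, ∃ k : ℤ, τ u = u * z ^ k) (u : U) :
    ∃ k : ℤ, (g * τ * g⁻¹) u = u * (g z) ^ k := by
  obtain ⟨k, hk⟩ := h (g⁻¹ u)
  refine ⟨k, ?_⟩
  show g (τ (g⁻¹ u)) = _
  rw [hk, map_mul, map_zpow, MulAut.apply_inv_self]

theorem zpow_apply_of_fixed (δ : MulAut U) (x c : U) (hx : δ x = x * c) (hc : δ c = c) (m : ℤ) :
    (δ ^ m) x = x * c ^ m := by
  obtain ⟨n, rfl | rfl⟩ := m.eq_nat_or_neg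
  · rw [zpow_natCast, zpow_natCast]
    exact pow_apply_of_fixed δ x c hx hc n
  · rw [zpow_neg, zpow_natCast, zpow_neg, zpow_natCast]
    have h1 : (δ ^ n) (x * (c ^ n)⁻¹) = x := by
      rw [map_mul, map_inv, map_pow, pow_apply_of_fixed δ x c hx hc n,
        pow_apply_fixed δ c hc n, mul_inv_cancel_right]
    rw [MulAut.inv_apply, MulEquiv.symm_apply_eq, h1]

theorem zpow_apply_fixed (δ : MulAut U) (x : U) (hx : δ x = x) (m : ℤ) : (δ ^ m) x = x := by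
  have := zpow_apply_of_fixed δ x 1 (by rw [hx, mul_one]) (map_one δ) m
  rwa [one_zpow, mul_one] at this

/-- The central involution of `SL₂(p)` generated by two transvections, with its action. -/
theorem exists_inverting' {p : ℕ} [Fact p.Prime] (hab : ∀ x y : U, x * y = y * x)
    (t t1 : MulAut U) (z z1 : U) (ht : ∃ k : ℤ, t z1 = z1 * z ^ k)
    (ht1 : ∃ k : ℤ, t1 z = z * z1 ^ k)
    (htz : t z = z) (ht1z1 : t1 z1 = z1) (hzp : z ^ p = 1) (hz1p : z1 ^ p = 1)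
    (h1 : t z1 ≠ z1) (h2 : t1 z ≠ z) :
    ∃ h ∈ Subgroup.closure ({t, t1} : Set (MulAut U)), h z = z⁻¹ ∧ h z1 = z1⁻¹ ∧
      ∀ d, t d = d → t1 d = d → h d = d := by
  obtain ⟨a, ha⟩ := ht
  obtain ⟨b, hb⟩ := ht1
  have ha1 : z ^ a ≠ 1 := fun h => h1 (by rw [ha, h, mul_one])
  have hb1 : z1 ^ b ≠ 1 := fun h => h2 (by rw [hb, h, mul_one])
  obtain ⟨i, hi⟩ := exists_pow_eq_of_ne_one hzp ⟨a, rfl⟩ ha1
  have hz1p' : (z1⁻¹) ^ p = 1 := by rw [inv_pow, hz1p, inv_one]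
  obtain ⟨j, hj⟩ := exists_pow_eq_of_ne_one (x := z1⁻¹) (y := z1 ^ b) hz1p'
    (by rw [Subgroup.zpowers_inv]; exact ⟨b, rfl⟩) hb1
  have hi' : (z ^ a) ^ i = z := hi
  have hj' : (z1 ^ b) ^ j = z1⁻¹ := hj
  have hTz1 : (t ^ i) z1 = z1 * z := by
    rw [pow_apply_of_fixed t z1 (z ^ a) ha (by rw [map_zpow, htz]) i, hi']
  have hTz : (t ^ i) z = z := pow_apply_fixed t z htz i
  have hLz : (t1 ^ j) z = z * z1⁻¹ := by
    rw [pow_apply_of_fixed t1 z (z1 ^ b) hb (by rw [map_zpow, ht1z1]) j, hj']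
  have hLz1 : (t1 ^ j) z1 = z1 := pow_apply_fixed t1 z1 ht1z1 j
  have hWz : (t ^ i * t1 ^ j * t ^ i) z = z1⁻¹ := by
    show (t ^ i) ((t1 ^ j) ((t ^ i) z)) = _
    rw [hTz, hLz, map_mul, map_inv, hTz, hTz1]
    group
  have hWz1 : (t ^ i * t1 ^ j * t ^ i) z1 = z := by
    show (t ^ i) ((t1 ^ j) ((t ^ i) z1)) = _
    rw [hTz1, map_mul, hLz1, hLz, ← mul_assoc, hab z1 z, mul_inv_cancel_right, hTz]
  have hWd : ∀ d, t d = d → t1 d = d → (t ^ i * t1 ^ j * t ^ i) d = d := by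
    intro d h3 h4
    show (t ^ i) ((t1 ^ j) ((t ^ i) d)) = _
    rw [pow_apply_fixed t d h3 i, pow_apply_fixed t1 d h4 j, pow_apply_fixed t d h3 i]
  have htm : t ∈ Subgroup.closure ({t, t1} : Set (MulAut U)) := Subgroup.subset_closure (by simp)
  have ht1m : t1 ∈ Subgroup.closure ({t, t1} : Set (MulAut U)) :=
    Subgroup.subset_closure (by simp)
  have hWm : t ^ i * t1 ^ j * t ^ i ∈ Subgroup.closure ({t, t1} : Set (MulAut U)) :=
    Subgroup.mul_mem _ (Subgroup.mul_mem _ (Subgroup.pow_mem _ htm i) (Subgroup.pow_mem _ ht1m j))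
      (Subgroup.pow_mem _ htm i)
  set W := t ^ i * t1 ^ j * t ^ i with hW
  refine ⟨W * W, Subgroup.mul_mem _ hWm hWm, ?_, ?_, ?_⟩
  · show W (W z) = _
    rw [hWz, map_inv, hWz1]
  · show W (W z1) = _
    rw [hWz1, hWz]
  · intro d h3 h4
    show W (W d) = _
    rw [hWd d h3 h4, hWd d h3 h4]

/-- A pair of non-commuting "transvections". -/
structure TVPair (p : ℕ) (Γ T : Subgroup (MulAut U)) (t t1 : MulAut U) (z z1 : U) : Prop where
  tv : IsTV Γ T t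
  tv1 : IsTV Γ T t1
  ht : ∀ u, ∃ k : ℤ, t u = u * z ^ k
  ht1 : ∀ u, ∃ k : ℤ, t1 u = u * z1 ^ k
  htz : t z = z
  ht1z1 : t1 z1 = z1
  hzp : z ^ p = 1
  hz1p : z1 ^ p = 1
  h1 : t z1 ≠ z1
  h2 : t1 z ≠ z

/-- Every further transvection fixes the common fixed points of a pair. -/
theorem TVPair.fixed {p : ℕ} [Fact p.Prime] [Finite U] (hU : IsPGroup p U)
    (hab : ∀ x y : U, x * y = y * x) {Γ T : Subgroup (MulAut U)} {Y : Subgroup U}
    (D : TVData p Γ T Y) {t t1 : MulAut U} {z z1 : U} (E : TVPair p Γ T t t1 z z1)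
    {t2 : MulAut U} {z2 : U} (tv2 : IsTV Γ T t2) (ht2 : ∀ u, ∃ k : ℤ, t2 u = u * z2 ^ k)
    (hz2p : z2 ^ p = 1) {d : U} (hd : t d = d) (hd1 : t1 d = d) :
    t2 d = d := by
  obtain ⟨i, hi⟩ := ht2 z
  obtain ⟨j, hj⟩ := ht2 z1
  by_cases hc : z2 ^ i = 1
  · have hz : t2 z = z := by rw [hi, hc, mul_one]
    refine (D.fix_eq hU E.tv tv2 (fun u => ?_) d).1 hd
    obtain ⟨k, hk⟩ := E.ht u
    rw [hk, inv_mul_cancel_left, map_zpow, hz]
  · obtain ⟨c, hc'⟩ := mem_zpowers_of_ne_one hz2p ⟨i, rfl⟩ hc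
    have hc2 : (z2 ^ i) ^ c = z2 := hc'
    obtain ⟨a, ha⟩ := E.ht z1
    have ha1 : z ^ a ≠ 1 := fun h => E.h1 (by rw [ha, h, mul_one])
    obtain ⟨c', hc''⟩ := mem_zpowers_of_ne_one E.hzp ⟨a, rfl⟩ ha1
    have hc3 : (z ^ a) ^ c' = z := hc''
    set m : ℤ := -(c * j) with hm
    have hw : t2 (z1 * z ^ m) = z1 * z ^ m := by
      have e1 : (z2 ^ i) ^ m = (z2 ^ j)⁻¹ := by
        rw [hm, zpow_neg, zpow_mul, hc2]
      rw [map_mul, map_zpow, hj, hi, (Commute.mul_zpow (hab z (z2 ^ i)) m), e1]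
      rw [mul_assoc, hab (z2 ^ j), mul_assoc, inv_mul_cancel, mul_one]
    have htn : (t ^ (c' * m)) z1 = z1 * z ^ m := by
      rw [zpow_apply_of_fixed t z1 (z ^ a) ha (by rw [map_zpow, E.htz]), zpow_mul, hc3]
    have tv3 : IsTV Γ T (t ^ (c' * m) * t1 * (t ^ (c' * m))⁻¹) :=
      E.tv1.conj (Γ.zpow_mem E.tv.1 _)
    refine (D.fix_eq hU tv3 tv2 (fun u => ?_) d).1 ?_
    · obtain ⟨k, hk⟩ := conj_tv_apply (g := t ^ (c' * m)) E.ht1 u
      rw [hk, inv_mul_cancel_left, map_zpow, htn, hw]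
    · show (t ^ (c' * m)) (t1 ((t ^ (c' * m))⁻¹ d)) = d
      rw [← zpow_neg, zpow_apply_fixed t d hd, hd1, zpow_apply_fixed t d hd]

/-- The largest `Γ`-invariant subgroup of `Y`. -/
def coreSub (Γ : Subgroup (MulAut U)) (Y : Subgroup U) : Subgroup U where
  carrier := {d | ∀ γ ∈ Γ, γ d ∈ Y}
  one_mem' := fun γ _ => by rw [map_one]; exact Y.one_mem
  mul_mem' := fun ha hb γ hγ => by rw [map_mul]; exact Y.mul_mem (ha γ hγ) (hb γ hγ)
  inv_mem' := fun ha γ hγ => by rw [map_inv]; exact Y.inv_mem (ha γ hγ)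

theorem mem_coreSub (Γ : Subgroup (MulAut U)) (Y : Subgroup U) (d : U) :
    d ∈ coreSub Γ Y ↔ ∀ γ ∈ Γ, γ d ∈ Y := Iff.rfl

theorem coreSub_le (Γ : Subgroup (MulAut U)) (Y : Subgroup U) : coreSub Γ Y ≤ Y :=
  fun d hd => by simpa using hd 1 Γ.one_mem

theorem coreSub_inv (Γ : Subgroup (MulAut U)) (Y : Subgroup U) {α : MulAut U} (hα : α ∈ Γ) {d : U}
    (hd : d ∈ coreSub Γ Y) : α d ∈ coreSub Γ Y :=
  fun γ hγ => hd (γ * α) (Γ.mul_mem hγ hα)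

/-- The reflection attached to an abelian `U` on which `Γ` has a Sylow subgroup of transvections with
axis `Y`, not `Γ`-invariant. -/
theorem TVData.exists_reflection {p : ℕ} [Fact p.Prime] [Finite U] (hU : IsPGroup p U)
    (hab : ∀ x y : U, x * y = y * x) {Γ T : Subgroup (MulAut U)} {Y : Subgroup U}
    (D : TVData p Γ T Y) {t : MulAut U} (htT : t ∈ T) (ht1 : t ≠ 1) {z : U} (hzY : z ∈ Y)
    (hzp : z ^ p = 1) (ht : ∀ u, ∃ k : ℤ, t u = u * z ^ k) {γ : MulAut U} (hγ : γ ∈ Γ) {ζ : U}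
    (hζ : ζ ∈ Y) (hγζ : γ ζ ∉ Y) :
    ∃ h ∈ Γ, h z = z⁻¹ ∧ (∀ d, (∀ γ' ∈ Γ, γ' d ∈ Y) → h d = d) ∧
      ∀ u ∈ Y, ∃ (k : ℤ) (d : U), u = z ^ k * d ∧ ∀ γ' ∈ Γ, γ' d ∈ Y := by
  have tv : IsTV Γ T t := ⟨D.syl.1 htT, ht1, 1, Γ.one_mem, by simpa using htT⟩
  have tv1 : IsTV Γ T (γ * t * γ⁻¹) := tv.conj hγ
  have hfix : ∀ u, t u = u ↔ u ∈ Y := fun u => by
    have := D.fix_iff (δ := 1) ht1 (by simpa using htT) u
    simpa using this
  have hfix1 : ∀ u, (γ * t * γ⁻¹) u = u ↔ γ⁻¹ u ∈ Y := fun u => by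
    refine D.fix_iff (δ := γ⁻¹) tv1.2.1 ?_ u
    have : γ⁻¹ * (γ * t * γ⁻¹) * γ⁻¹⁻¹ = t := by group
    rw [this]
    exact htT
  have hne : ¬ ∀ u, (γ * t * γ⁻¹) u = u ↔ t u = u := by
    intro h
    apply hγζ
    rw [← hfix, ← h, hfix1, MulAut.inv_apply_self]
    exact hζ
  have ht1' := conj_tv_apply (g := γ) ht
  have htz : t z = z := (hfix z).2 hzY
  have ht1z1 : (γ * t * γ⁻¹) (γ z) = γ z := by
    rw [hfix1, MulAut.inv_apply_self]
    exact hzY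
  have E : TVPair p Γ T t (γ * t * γ⁻¹) z (γ z) :=
    { tv := tv
      tv1 := tv1
      ht := ht
      ht1 := ht1'
      htz := htz
      ht1z1 := ht1z1
      hzp := hzp
      hz1p := by rw [← map_pow, hzp, map_one]
      h1 := by
        intro h
        apply hne
        refine D.fix_eq hU tv1 tv (fun u => ?_)
        obtain ⟨k, hk⟩ := ht1' u
        rw [hk, inv_mul_cancel_left, map_zpow, h]
      h2 := by
        intro h
        apply hne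
        intro u
        refine (D.fix_eq hU tv tv1 (fun u => ?_) u).symm
        obtain ⟨k, hk⟩ := ht u
        rw [hk, inv_mul_cancel_left, map_zpow, h] }
  have hcore : ∀ d, t d = d → (γ * t * γ⁻¹) d = d → ∀ γ' ∈ Γ, γ' d ∈ Y := by
    intro d hd hd1 γ' hγ'
    have tv2 : IsTV Γ T (γ'⁻¹ * t * γ'⁻¹⁻¹) := tv.conj (Γ.inv_mem hγ')
    have h2 := E.fixed hU hab D tv2 (conj_tv_apply (g := γ'⁻¹) ht)
      (by rw [← map_pow, hzp, map_one]) hd hd1
    have h3 := (D.fix_iff (δ := γ') tv2.2.1 (by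
      have : γ' * (γ'⁻¹ * t * γ'⁻¹⁻¹) * γ'⁻¹ = t := by group
      rw [this]
      exact htT) d).1 h2
    exact h3
  obtain ⟨h, hh, hhz, -, hhd⟩ := exists_inverting' (p := p) hab t (γ * t * γ⁻¹) z (γ z) (ht _)
    (ht1' _) htz ht1z1 hzp E.hz1p E.h1 E.h2
  have hhΓ : h ∈ Γ := by
    refine (Subgroup.closure_le Γ).2 ?_ hh
    rintro a (rfl | ha)
    · exact tv.1
    · rw [Set.mem_singleton_iff] at ha
      rw [ha]
      exact tv1.1
  refine ⟨h, hhΓ, hhz, fun d hd => hhd d ((hfix d).2 (by simpa using hd 1 Γ.one_mem))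
    ((hfix1 d).2 (hd _ (Γ.inv_mem hγ))), fun u hu => ?_⟩
  let _ : CommGroup U := { (inferInstance : Group U) with mul_comm := hab }
  obtain ⟨k, l, d, hxd, htd, ht1d⟩ := exists_fixed_decomp (p := p) t.toMonoidHom
    (γ * t * γ⁻¹).toMonoidHom z (γ z) ht ht1' htz ht1z1 hzp E.hz1p E.h1 E.h2 u
  have htd' : t d = d := htd
  have ht1d' : (γ * t * γ⁻¹) d = d := ht1d
  obtain ⟨a, ha⟩ := ht (γ z)
  have ha1 : z ^ a ≠ 1 := fun h => E.h1 (by rw [ha, h, mul_one])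
  have hu' : t u = u := (hfix u).2 hu
  have hl : (z ^ a) ^ l = 1 := by
    rw [hxd, map_mul, map_mul, map_zpow, map_zpow, htz, ha, htd', mul_zpow] at hu'
    have h5 : z ^ k * ((γ z) ^ l * (z ^ a) ^ l) * d = (z ^ k * (γ z) ^ l * d) * (z ^ a) ^ l := by
      rw [mul_assoc, mul_assoc, mul_assoc, mul_assoc, mul_comm ((z ^ a) ^ l) d]
    rw [h5] at hu'
    exact mul_eq_left.1 hu'
  have hord : orderOf (z ^ a) = p := orderOf_eq_prime (by
    rw [← zpow_natCast, ← zpow_mul, mul_comm, zpow_mul, zpow_natCast, hzp, one_zpow]) ha1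
  have hdvd : (p : ℤ) ∣ l := by
    rw [← hord]
    exact orderOf_dvd_iff_zpow_eq_one.2 hl
  obtain ⟨l', rfl⟩ := hdvd
  refine ⟨k, d, ?_, hcore d htd' ht1d'⟩
  rw [hxd, zpow_mul, zpow_natCast, E.hz1p, one_zpow, mul_one]

end Cfsg.Agent.Lib.Helper89
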