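import Cfsg.Agent.Lib.Helper86.FusionNormal
import Cfsg.Agent.Lib.Helper86.FusionSatEquiv
import Cfsg.Agent.Lib.Helper89.Lifting
import Cfsg.Agent.Lib.Helper89.FusionAux
import Cfsg.Agent.Lib.Helper89.TransvSylow
import Cfsg.Agent.Lib.Helper89.AbIndexP
import Cfsg.Agent.Lib.Helper89.ReflUnique

set_option autoImplicit false
set_option linter.unusedSectionVars false
set_option linter.deprecated false

namespace Cfsg.Agent.Lib.Helper89

open Cfsg Cfsg.FusionSystem Cfsg.Agent.Lib.Helper87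

variable {Ω : Type*} [Group Ω] {S : Subgroup Ω}

/-- Restriction of an automorphism in `Aut_F(R)` to an invariant subgroup. -/
theorem exists_restrict_aut [Finite S] {F : FusionSystem S} {R Y : Subgroup Ω} (hR : R ≤ S)
    (hYR : Y ≤ R) {α : MulAut R} (hα : α ∈ F.autGroup R)
    (hinv : ∀ u : R, (u : Ω) ∈ Y → ((α u : R) : Ω) ∈ Y) :
    ∃ δ ∈ F.autGroup Y, ∀ u : Y, ((δ u : Y) : Ω) = ((α ⟨u, hYR u.2⟩ : R) : Ω) := by
  have : Finite Y := finite_of_le (hYR.trans hR)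
  have h1 : Mor F R (autFun α) := (mem_autGroup_iff F hR α).1 hα
  have h2 : Mor F Y (autFun α) := h1.mono hYR
  have h3 : Iso F Y Y (autFun α) := h2.iso_self (fun x hx => by
    rw [autFun_apply α (hYR hx)]
    exact hinv _ hx)
  obtain ⟨δ, hδ, e⟩ := h3.exists_aut
  exact ⟨δ, hδ, fun u => by rw [e, autFun_apply α (hYR u.2)]⟩

theorem isFullyNormalized_of_normal [Finite S] (F : FusionSystem S) {Y : Subgroup Ω} (hY : Y ≤ S)
    (hn : S ≤ Subgroup.normalizer (Y : Set Ω)) : F.IsFullyNormalized Y := by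
  refine ⟨hY, fun Q _ => ?_⟩
  have h1 : normalizerIn S Y = S := inf_eq_left.2 hn
  rw [h1]
  exact Subgroup.card_le_of_le (normalizerIn_le S Q)

/-- `Aut_F(Z(S))` is a `p'`-group: an element stabilizing a chain `1 ≤ C ≤ Z(S)` is trivial. -/
theorem aut_center_eq_one [Finite S] {p : ℕ} [Fact p.Prime] (hS : IsPGroup p S)
    (F : FusionSystem S) (hF : F.IsSaturated p)
    (C : Subgroup ↥(S ⊓ Subgroup.centralizer (S : Set Ω)))
    (f : MulAut ↥(S ⊓ Subgroup.centralizer (S : Set Ω)))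
    (hf : f ∈ F.autGroup (S ⊓ Subgroup.centralizer (S : Set Ω))) (h1 : ∀ c ∈ C, f c = c)
    (h2 : ∀ u, u⁻¹ * f u ∈ C) : f = 1 := by
  have hZS : S ⊓ Subgroup.centralizer (S : Set Ω) ≤ S := inf_le_left
  have : Finite ↥(S ⊓ Subgroup.centralizer (S : Set Ω)) := finite_of_le hZS
  have hn : S ≤ Subgroup.normalizer ((S ⊓ Subgroup.centralizer (S : Set Ω) : Subgroup Ω) : Set Ω) := by
    apply le_normalizer_of_conj_mem
    intro u hu x hx
    have := (AbIdx.mem_Z_iff.1 hx).2 u hu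
    rw [this, mul_inv_cancel_right]
    exact hx
  have hfa := Helper86.sat_fullyAutomized_of_fullyNormalized hS F hF
    (isFullyNormalized_of_normal F hZS hn)
  have hst : StabChain (chain4 C C C) 4 f := by
    refine stabChain4 le_rfl le_rfl f h1 (fun x _ => h2 x) (fun x _ => h2 x) h2
  have hLp : IsPGroup p (Subgroup.closure ({f} : Set (MulAut ↥(S ⊓ Subgroup.centralizer (S : Set Ω))))) := by
    refine isPGroup_closure_of_stabChain (hS.to_le hZS) (chain4 C C C) 4 rfl rfl _ ?_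
    intro a ha
    rw [Set.mem_singleton_iff] at ha
    rw [ha]
    exact hst
  have hL : Subgroup.closure ({f} : Set (MulAut ↥(S ⊓ Subgroup.centralizer (S : Set Ω)))) ≤
      F.autGroup (S ⊓ Subgroup.centralizer (S : Set Ω)) := by
    rw [Subgroup.closure_le]
    intro a ha
    rw [Set.mem_singleton_iff] at ha
    rw [ha]
    exact hf
  obtain ⟨γ, -, hconj⟩ := (isSylIn_of_fullyAutomized hfa).exists_conj hL hLp
  have h3 := hconj f (Subgroup.subset_closure (by simp))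
  rw [mem_autInducedBy_iff] at h3
  obtain ⟨g, hg, e⟩ := h3
  have h4 : γ * f * γ⁻¹ = 1 := by
    ext x
    rw [e]
    have := (AbIdx.mem_Z_iff.1 x.2).2 g hg
    rw [this, mul_inv_cancel_right]
    rfl
  have : f = γ⁻¹ * (γ * f * γ⁻¹) * γ := by group
  rw [this, h4]
  group

/-- The abelian candidates `P = Z(S)⟨x⟩`. -/
structure HType (p : ℕ) (S A P : Subgroup Ω) (x : Ω) : Prop where
  D : AbIdx p S A
  hx : x ∈ S
  hxA : x ∉ A
  hP : P = (S ⊓ Subgroup.centralizer (S : Set Ω)) ⊔ Subgroup.zpowers x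

namespace HType

variable {p : ℕ} [Fact p.Prime] [Finite S] {A P : Subgroup Ω} {x : Ω}

theorem le (H : HType p S A P x) : P ≤ S := by
  rw [H.hP]
  exact sup_le inf_le_left (Subgroup.zpowers_le.2 H.hx)

theorem Z_le (H : HType p S A P x) : S ⊓ Subgroup.centralizer (S : Set Ω) ≤ P := by
  rw [H.hP]
  exact le_sup_left

theorem x_mem (H : HType p S A P x) : x ∈ P := by
  rw [H.hP]
  exact Subgroup.mem_sup_right (Subgroup.mem_zpowers x)

theorem comm_x (H : HType p S A P x) {u : Ω} (hu : u ∈ P) : u * x = x * u := by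
  have h1 : P ≤ Subgroup.centralizer ({x} : Set Ω) := by
    rw [H.hP]
    refine sup_le (fun z hz => ?_) (Subgroup.zpowers_le.2 ?_)
    · rw [Subgroup.mem_centralizer_singleton_iff]
      exact ((AbIdx.mem_Z_iff.1 hz).2 x H.hx).symm
    · rw [Subgroup.mem_centralizer_singleton_iff]
  exact Subgroup.mem_centralizer_singleton_iff.1 (h1 hu)

theorem comm (H : HType p S A P x) {u v : Ω} (hu : u ∈ P) (hv : v ∈ P) : u * v = v * u := by
  have h1 : P ≤ Subgroup.centralizer (P : Set Ω) := by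
    nth_rewrite 1 [H.hP]
    refine sup_le (fun z hz => ?_) (Subgroup.zpowers_le.2 ?_)
    · rw [Subgroup.mem_centralizer_iff]
      intro w hw
      exact (AbIdx.mem_Z_iff.1 hz).2 w (H.le hw)
    · rw [Subgroup.mem_centralizer_iff]
      intro w hw
      exact H.comm_x hw
  exact (Subgroup.mem_centralizer_iff.1 (h1 hv) u hu)

theorem mem_Z (H : HType p S A P x) {u : Ω} (hu : u ∈ P) (huA : u ∈ A) :
    u ∈ S ⊓ Subgroup.centralizer (S : Set Ω) :=
  H.D.mem_Z_of_comm H.hx H.hxA huA (H.comm_x hu)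

theorem exists_decomp (H : HType p S A P x) {u : Ω} (hu : u ∈ P) :
    ∃ ζ ∈ S ⊓ Subgroup.centralizer (S : Set Ω), ∃ k : ℕ, u = ζ * x ^ k := by
  obtain ⟨a, ha, k, e⟩ := H.D.exists_decomp H.hx H.hxA (H.le hu)
  refine ⟨a, H.mem_Z ?_ ha, k, e⟩
  have : a = u * (x ^ k)⁻¹ := by rw [e, mul_inv_cancel_right]
  rw [this]
  exact P.mul_mem hu (P.inv_mem (P.pow_mem H.x_mem k))

theorem ne_top (H : HType p S A P x) : P < S :=
  lt_of_le_of_ne H.le (fun h => H.D.nonab (fun _ ha _ hb => H.comm (h ▸ ha) (h ▸ hb)))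

theorem tvData (H : HType p S A P x) {F : FusionSystem S} (hfa : F.IsFullyAutomized p P) :
    TVData p (F.autGroup P) (autInducedBy S P)
      ((S ⊓ Subgroup.centralizer (S : Set Ω)).subgroupOf P) where
  syl := isSylIn_of_fullyAutomized hfa
  fix := by
    intro t ht u hu
    obtain ⟨g, hg, e⟩ := (mem_autInducedBy_iff S P t).1 ht
    apply Subtype.ext
    rw [e, (AbIdx.mem_Z_iff.1 (Subgroup.mem_subgroupOf.1 hu)).2 g hg, mul_inv_cancel_right]
  fix' := by
    intro t ht ht1 u hu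
    obtain ⟨g, hg, e⟩ := (mem_autInducedBy_iff S P t).1 ht
    by_contra hcon
    have huA : (u : Ω) ∉ A := fun h => hcon (Subgroup.mem_subgroupOf.2 (H.mem_Z u.2 h))
    obtain ⟨a, ha, k, hk⟩ := H.D.exists_decomp (H.le u.2) huA hg
    have h1 : g * (u : Ω) * g⁻¹ = u := by rw [← e, hu]
    have h2 : g * (u : Ω) = u * g := mul_inv_eq_iff_eq_mul.1 h1
    have h3 : a * (u : Ω) = u * a := by
      rw [hk] at h2
      have h4 : a * (u : Ω) ^ k * u = a * u * u ^ k := by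
        rw [mul_assoc, mul_assoc, ← pow_succ, ← pow_succ']
      rw [h4, ← mul_assoc] at h2
      exact mul_right_cancel h2
    have haZ := H.D.mem_Z_of_comm (H.le u.2) huA ha h3
    have hgP : g ∈ P := by
      rw [hk]
      exact P.mul_mem (H.Z_le haZ) (P.pow_mem u.2 k)
    apply ht1
    ext v
    rw [e, H.comm hgP v.2, mul_inv_cancel_right]
    rfl
  quot := by
    intro t ht u
    obtain ⟨g, hg, e⟩ := (mem_autInducedBy_iff S P t).1 ht
    rw [Subgroup.mem_subgroupOf]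
    refine H.mem_Z (u⁻¹ * t u).2 ?_
    have h1 := H.D.comm_mem (S.inv_mem (H.le u.2)) hg
    have h2 : (((u⁻¹ * t u : P)) : Ω) = (u : Ω)⁻¹ * g * (u : Ω)⁻¹⁻¹ * g⁻¹ := by
      rw [Subgroup.coe_mul, e, Subgroup.coe_inv]
      group
    rw [h2]
    exact h1

/-- The transvection induced by an element of `N_S(P) ∖ P`. -/
theorem exists_transvection (H : HType p S A P x) (hS : IsPGroup p S) {F : FusionSystem S}
    (hc : F.IsCentric P) :
    ∃ (g : Ω) (t : MulAut P) (z : P), g ∈ normalizerIn S P ∧ g ∉ P ∧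
      (∀ u : P, ((t u : P) : Ω) = g * u * g⁻¹) ∧ t ∈ F.autGroup P ∧ t ∈ autInducedBy S P ∧ t ≠ 1 ∧
      (z : Ω) = x⁻¹ * g * x⁻¹⁻¹ * g⁻¹ ∧
      z ∈ (S ⊓ Subgroup.centralizer (S : Set Ω)).subgroupOf P ∧ z ^ p = 1 ∧ z ≠ 1 ∧
      ∀ u, ∃ k : ℤ, t u = u * z ^ k := by
  obtain ⟨g, hgS, hgP, hgN⟩ := exists_normalizer_not_mem hS H.ne_top le_rfl
  have hgN' : g ∈ normalizerIn S P := ⟨hgS, hgN⟩
  obtain ⟨t, ht, e⟩ := exists_conj_aut F H.le hgN'
  have htT : t ∈ autInducedBy S P := (mem_autInducedBy_iff S P t).2 ⟨g, hgS, e⟩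
  have ht1 : t ≠ 1 := by
    intro h1
    apply hgP
    apply hc.2 P (isConj_refl F H.le)
    rw [mem_centralizerIn_iff]
    refine ⟨hgS, fun v hv => ?_⟩
    have h2 := e ⟨v, hv⟩
    rw [h1] at h2
    have h3 : v = g * v * g⁻¹ := h2
    exact (mul_inv_eq_iff_eq_mul.1 h3.symm).symm
  have hfixZ : ∀ u : P, (u : Ω) ∈ S ⊓ Subgroup.centralizer (S : Set Ω) → t u = u := by
    intro u hu
    apply Subtype.ext
    rw [e, (AbIdx.mem_Z_iff.1 hu).2 g hgS, mul_inv_cancel_right]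
  set xU : P := ⟨x, H.x_mem⟩ with hxU
  have hzc : (((xU⁻¹ * t xU : P)) : Ω) = x⁻¹ * g * x⁻¹⁻¹ * g⁻¹ := by
    rw [Subgroup.coe_mul, e, Subgroup.coe_inv]
    show x⁻¹ * (g * x * g⁻¹) = _
    group
  have hzY : xU⁻¹ * t xU ∈ (S ⊓ Subgroup.centralizer (S : Set Ω)).subgroupOf P := by
    rw [Subgroup.mem_subgroupOf]
    refine H.mem_Z (xU⁻¹ * t xU).2 ?_
    rw [hzc]
    exact H.D.comm_mem (S.inv_mem H.hx) hgS
  set z : P := xU⁻¹ * t xU with hz
  have htx : t xU = xU * z := by rw [hz, mul_inv_cancel_left]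
  have habU : ∀ a b : P, a * b = b * a := fun a b => Subtype.ext (H.comm a.2 b.2)
  have hpow : ∀ k : ℕ, t (xU ^ k) = xU ^ k * z ^ k := by
    intro k
    rw [map_pow, htx, (show Commute xU z from habU xU z).mul_pow]
  have hzp : z ^ p = 1 := by
    have h1 : t (xU ^ p) = xU ^ p := by
      apply hfixZ
      refine H.mem_Z (xU ^ p).2 ?_
      rw [Subgroup.coe_pow]
      exact H.D.pow_mem H.hx
    rw [hpow] at h1
    exact mul_eq_left.1 h1
  have hform : ∀ u, ∃ k : ℤ, t u = u * z ^ k := by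
    intro u
    obtain ⟨ζ, hζ, k, hk⟩ := H.exists_decomp u.2
    refine ⟨k, ?_⟩
    have hu : u = (⟨ζ, H.Z_le hζ⟩ : P) * xU ^ k := Subtype.ext (by simpa using hk)
    rw [hu, map_mul, hfixZ _ hζ, hpow, zpow_natCast, mul_assoc]
  refine ⟨g, t, z, hgN', hgP, e, ht, htT, ht1, hzc, hzY, hzp, ?_, hform⟩
  intro hz1
  apply ht1
  ext u
  obtain ⟨k, hk⟩ := hform u
  rw [hk, hz1, one_zpow, mul_one]
  rfl

/-- `Z(S)` is not invariant under `Aut_F(P)`. -/
theorem exists_moving (H : HType p S A P x) (hS : IsPGroup p S) {F : FusionSystem S}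
    (hc : F.IsCentric P) (hr : F.IsRadical p P) (hfa : F.IsFullyAutomized p P) :
    ∃ γ ∈ F.autGroup P, ∃ ζ ∈ (S ⊓ Subgroup.centralizer (S : Set Ω)).subgroupOf P,
      γ ζ ∉ (S ⊓ Subgroup.centralizer (S : Set Ω)).subgroupOf P := by
  by_contra hcon
  push Not at hcon
  obtain ⟨g, t, z, hgN, hgP, e, ht, htT, -⟩ := H.exists_transvection hS hc
  have T := H.tvData hfa
  have : Finite P := finite_of_le H.le
  set Y := (S ⊓ Subgroup.centralizer (S : Set Ω)).subgroupOf P with hY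
  apply hgP
  refine mem_of_conj_mem_pCore hc hr hgN.1 t ?_ e
  refine mem_pCore_of_stabilizes_chain (hS.to_le H.le) (F.autGroup P) 4 (chain4 Y Y Y) rfl rfl
    (fun i α hα => chain4_inv α (hcon α hα) (hcon α hα) (hcon α hα) i) t ht
    (chain4_stab t (T.fix t htT) (fun u _ => T.quot t htT u) (fun u _ => T.quot t htT u)
      (T.quot t htT))

/-- The reflection of `Z(S)` attached to an essential subgroup `Z(S)⟨x⟩`. -/
theorem exists_refl (H : HType p S A P x) (hS : IsPGroup p S) {F : FusionSystem S}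
    (hc : F.IsCentric P) (hr : F.IsRadical p P) (hfa : F.IsFullyAutomized p P) :
    ∃ (z : ↥(S ⊓ Subgroup.centralizer (S : Set Ω))) (Dz : Subgroup Ω)
      (h : MulAut ↥(S ⊓ Subgroup.centralizer (S : Set Ω))),
      z ≠ 1 ∧ z ^ p = 1 ∧ (z : Ω) ∈ (commutator ↥S).map S.subtype ∧
      Dz ≤ S ⊓ Subgroup.centralizer (S : Set Ω) ∧
      h ∈ F.autGroup (S ⊓ Subgroup.centralizer (S : Set Ω)) ∧
      IsRefl (Subgroup.zpowers z) (Dz.subgroupOf (S ⊓ Subgroup.centralizer (S : Set Ω))) h ∧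
      ∀ α ∈ F.autGroup P, ∀ u : P, (u : Ω) ∈ Dz → ((α u : P) : Ω) ∈ Dz := by
  obtain ⟨g, t, z, hgN, hgP, e, ht, htT, ht1, hzc, hzY, hzp, hz1, hform⟩ :=
    H.exists_transvection hS hc
  obtain ⟨γ, hγ, ζ, hζ, hγζ⟩ := H.exists_moving hS hc hr hfa
  have T := H.tvData hfa
  have : Finite P := finite_of_le H.le
  have habU : ∀ a b : P, a * b = b * a := fun a b => Subtype.ext (H.comm a.2 b.2)
  obtain ⟨h, hh, hhz, hhd, hdec⟩ := T.exists_reflection (hS.to_le H.le) habU htT ht1 hzY hzp hform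
    hγ hζ hγζ
  set Y := (S ⊓ Subgroup.centralizer (S : Set Ω)).subgroupOf P with hY
  have hinv : ∀ u : P, (u : Ω) ∈ S ⊓ Subgroup.centralizer (S : Set Ω) →
      ((h u : P) : Ω) ∈ S ⊓ Subgroup.centralizer (S : Set Ω) := by
    intro u hu
    obtain ⟨k, d, hud, hd⟩ := hdec u (Subgroup.mem_subgroupOf.2 hu)
    have h1 : h u ∈ Y := by
      rw [hud, map_mul, map_zpow, hhz, hhd d hd]
      exact Y.mul_mem (Y.zpow_mem (Y.inv_mem hzY) k) (coreSub_le _ _ hd)
    exact Subgroup.mem_subgroupOf.1 h1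
  obtain ⟨δ, hδ, eδ⟩ := exists_restrict_aut H.le H.Z_le hh hinv
  have hzZ : (z : Ω) ∈ S ⊓ Subgroup.centralizer (S : Set Ω) := Subgroup.mem_subgroupOf.1 hzY
  refine ⟨⟨z, hzZ⟩, (coreSub (F.autGroup P) Y).map P.subtype, δ, ?_, ?_, ?_, ?_, hδ, ⟨?_, ?_, ?_⟩,
    ?_⟩
  · intro h1
    have h2 : (z : Ω) = 1 := congrArg Subtype.val h1
    exact hz1 (Subtype.ext h2)
  · apply Subtype.ext
    have := congrArg Subtype.val hzp
    simpa using this
  · show (z : Ω) ∈ _
    rw [hzc]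
    exact AbIdx.comm_mem_commutator (S.inv_mem H.hx) hgN.1
  · rintro _ ⟨d, hd, rfl⟩
    exact Subgroup.mem_subgroupOf.1 (coreSub_le _ _ hd)
  · have h1 : δ ⟨z, hzZ⟩ = (⟨z, hzZ⟩ : ↥(S ⊓ Subgroup.centralizer (S : Set Ω)))⁻¹ := by
      apply Subtype.ext
      rw [eδ]
      show ((h z : P) : Ω) = _
      rw [hhz]
      rfl
    rintro _ ⟨k, rfl⟩
    show δ (_ ^ k) = _
    rw [map_zpow, h1, inv_zpow]
  · intro d hd
    obtain ⟨d', hd', e'⟩ := Subgroup.mem_subgroupOf.1 hd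
    apply Subtype.ext
    rw [eδ]
    have h2 : (⟨(d : Ω), H.Z_le d.2⟩ : P) = d' := Subtype.ext e'.symm
    rw [h2, hhd d' hd']
    exact e'
  · intro u
    obtain ⟨k, d, hud, hd⟩ := hdec ⟨u, H.Z_le u.2⟩ (Subgroup.mem_subgroupOf.2 u.2)
    have hdZ : (d : Ω) ∈ S ⊓ Subgroup.centralizer (S : Set Ω) :=
      Subgroup.mem_subgroupOf.1 (coreSub_le _ _ hd)
    refine ⟨_, ⟨k, rfl⟩, ⟨d, hdZ⟩, Subgroup.mem_subgroupOf.2 ⟨d, hd, rfl⟩, ?_⟩
    apply Subtype.ext
    have := congrArg Subtype.val hud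
    simpa using this
  · rintro α hα u ⟨d, hd, e'⟩
    have h2 : u = d := Subtype.ext e'.symm
    rw [h2]
    exact ⟨α d, coreSub_inv _ _ hα hd, rfl⟩

end HType

end Cfsg.Agent.Lib.Helper89
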