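import Cfsg.Agent.Lib.Helper86.FusionSeries
import Cfsg.Agent.Lib.Helper86.OliverA
import Cfsg.Agent.Lib.Helper89.OliverLocal

set_option autoImplicit false
set_option linter.unusedSectionVars false

namespace Cfsg.Agent.Lib.Helper89

open Cfsg Cfsg.FusionSystem Cfsg.Agent.Lib.Helper87

section abstract

variable {U : Type*} [Group U]

theorem isPGroup_zpowers_of_pow {p k : ℕ} {τ : U} (h : τ ^ (p ^ k) = 1) :
    IsPGroup p (Subgroup.zpowers τ) := by
  rintro ⟨x, m, rfl⟩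
  refine ⟨k, Subtype.ext ?_⟩
  show (τ ^ m) ^ (p ^ k) = 1
  rw [← zpow_natCast, ← zpow_mul, mul_comm, zpow_mul, zpow_natCast, h, one_zpow]

/-- If a Sylow `p`-subgroup `T` of `Γ` centralizes `X`, then every `p`-element of `Γ` normalizing `X`
centralizes `X`. -/
theorem fix_of_sylow_fix [Finite U] {p : ℕ} [Fact p.Prime] {Γ T : Subgroup (MulAut U)}
    (hT : IsSylIn p T Γ) (X : Subgroup U) (hTX : ∀ t ∈ T, ∀ u ∈ X, t u = u) {τ : MulAut U}
    (hτ : τ ∈ Γ) (hτp : IsPGroup p (Subgroup.zpowers τ)) (hτX : ∀ u ∈ X, τ u ∈ X) :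
    ∀ u ∈ X, τ u = u := by
  let N : Subgroup (MulAut U) :=
    { carrier := {α | α ∈ Γ ∧ ∀ u, α u ∈ X ↔ u ∈ X}
      mul_mem' := fun {a b} ha hb => ⟨Γ.mul_mem ha.1 hb.1, fun u => by
        rw [MulAut.mul_apply, ha.2, hb.2]⟩
      one_mem' := ⟨Γ.one_mem, fun u => Iff.rfl⟩
      inv_mem' := fun {a} ha => ⟨Γ.inv_mem ha.1, fun u => by
        rw [← ha.2 (a⁻¹ u), MulAut.apply_inv_self]⟩ }
  have hNΓ : N ≤ Γ := fun α hα => hα.1
  have hTN : T ≤ N := by
    intro t ht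
    refine ⟨hT.1 ht, fun u => ⟨fun h => ?_, fun h => by rw [hTX t ht u h]; exact h⟩⟩
    have := hTX t ht _ h
    rw [← t.injective this]
    exact h
  have hτN : τ ∈ N := by
    refine ⟨hτ, fun u => ⟨fun h => ?_, hτX u⟩⟩
    let f : X → X := fun v => ⟨τ v, hτX v v.2⟩
    have hinj : Function.Injective f := fun a b hab =>
      Subtype.ext (τ.injective (congrArg Subtype.val hab))
    obtain ⟨v, hv⟩ := (Finite.injective_iff_surjective.1 hinj) ⟨τ u, h⟩
    have : τ v = τ u := congrArg Subtype.val hv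
    rw [← τ.injective this]
    exact v.2
  obtain ⟨n, hn, hconj⟩ := (hT.mono hTN hNΓ).exists_conj (Subgroup.zpowers_le.2 hτN) hτp
  intro u hu
  have h1 := hTX _ (hconj τ (Subgroup.mem_zpowers τ)) (n u) ((hn.2 u).2 hu)
  have h2 : (n * τ * n⁻¹) (n u) = n (τ u) := by simp [MulAut.mul_apply]
  rw [h2] at h1
  exact n.injective h1

end abstract

variable {Ω : Type*} [Group Ω] {S : Subgroup Ω}

/-- Groups like the Heisenberg group over a field: class two, abelian centralizers of noncentral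
elements, and `[x, S] = Z(S)` for noncentral `x`. -/
structure HeisLike (S : Subgroup Ω) : Prop where
  cls : ∀ a ∈ S, ∀ b ∈ S, a * b * a⁻¹ * b⁻¹ ∈ S ⊓ Subgroup.centralizer (S : Set Ω)
  cab : ∀ x ∈ S, x ∉ S ⊓ Subgroup.centralizer (S : Set Ω) → ∀ u ∈ S, ∀ v ∈ S, u * x = x * u →
    v * x = x * v → u * v = v * u
  sur : ∀ x ∈ S, x ∉ S ⊓ Subgroup.centralizer (S : Set Ω) →
    ∀ z ∈ S ⊓ Subgroup.centralizer (S : Set Ω), ∃ s ∈ S, x * s * x⁻¹ * s⁻¹ = z

namespace HeisLike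

variable [Finite S] {p : ℕ} [Fact p.Prime] {F : FusionSystem S} {E : Subgroup Ω}

theorem Z_le_of_centric (hc : F.IsCentric E) : S ⊓ Subgroup.centralizer (S : Set Ω) ≤ E := by
  intro z hz
  apply hc.2 E (isConj_refl F hc.1)
  rw [mem_centralizerIn_iff]
  exact ⟨hz.1, fun x hx => (AbIdx.mem_Z_iff.1 hz).2 x (hc.1 hx)⟩

theorem normalizes (H : HeisLike S) (hES : E ≤ S)
    (hZE : S ⊓ Subgroup.centralizer (S : Set Ω) ≤ E) : S ≤ Subgroup.normalizer (E : Set Ω) := by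
  apply le_normalizer_of_conj_mem
  intro s hs u hu
  have h1 := hZE (H.cls s hs u (hES hu))
  have h2 : s * u * s⁻¹ = (s * u * s⁻¹ * u⁻¹) * u := by group
  rw [h2]
  exact E.mul_mem h1 hu

/-- conjugation by an element of `S` is in `O_p(Aut_F(E))` as soon as `Z(S)` is `Aut_F(E)`-invariant -/
theorem mem_of_invariant (H : HeisLike S) (hS : IsPGroup p S) (hc : F.IsCentric E)
    (hr : F.IsRadical p E)
    (hinv : ∀ α ∈ F.autGroup E, ∀ u ∈ (S ⊓ Subgroup.centralizer (S : Set Ω)).subgroupOf E,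
      α u ∈ (S ⊓ Subgroup.centralizer (S : Set Ω)).subgroupOf E) {g : Ω} (hg : g ∈ S) : g ∈ E := by
  have hES := hc.1
  have hZE := Z_le_of_centric hc
  have hgN : g ∈ normalizerIn S E := ⟨hg, H.normalizes hES hZE hg⟩
  obtain ⟨t, ht, e⟩ := exists_conj_aut F hES hgN
  have : Finite E := finite_of_le hES
  set Y := (S ⊓ Subgroup.centralizer (S : Set Ω)).subgroupOf E with hY
  have hfix : ∀ u ∈ Y, t u = u := by
    intro u hu
    apply Subtype.ext
    rw [e, (AbIdx.mem_Z_iff.1 (Subgroup.mem_subgroupOf.1 hu)).2 g hg, mul_inv_cancel_right]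
  have hquot : ∀ u, u⁻¹ * t u ∈ Y := by
    intro u
    rw [hY, Subgroup.mem_subgroupOf, Subgroup.coe_mul, e, Subgroup.coe_inv]
    have h1 := H.cls _ (S.inv_mem (hES u.2)) g hg
    have h2 : (u : Ω)⁻¹ * (g * u * g⁻¹) = (u : Ω)⁻¹ * g * (u : Ω)⁻¹⁻¹ * g⁻¹ := by group
    rw [h2]
    exact h1
  refine mem_of_conj_mem_pCore hc hr hg t ?_ e
  exact mem_pCore_of_stabilizes_chain (hS.to_le hES) (F.autGroup E) 4 (chain4 Y Y Y) rfl rfl
    (fun i α hα => chain4_inv α (hinv α hα) (hinv α hα) (hinv α hα) i) t ht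
    (chain4_stab t hfix (fun u _ => hquot u) (fun u _ => hquot u) hquot)

theorem essential_abelian (H : HeisLike S) (hS : IsPGroup p S) (hF : F.IsSaturated p)
    (hE : F.IsEssential p E) : ∀ u ∈ E, ∀ v ∈ E, u * v = v * u := by
  by_contra hcon
  push Not at hcon
  obtain ⟨a, ha, b, hb, hab⟩ := hcon
  have hES := hE.1.1
  have hr := Cfsg.Agent.S5080.result p hS F hF E hE
  have hcenter : ∀ u ∈ E, (∀ v ∈ E, u * v = v * u) →
      u ∈ S ⊓ Subgroup.centralizer (S : Set Ω) := by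
    intro u hu hcu
    by_contra huZ
    exact hab (H.cab u (hES hu) huZ a (hES ha) b (hES hb) (hcu a ha).symm (hcu b hb).symm)
  have hlt := Helper86.Oliver.essential_lt hS hF hE
  have hle : S ≤ E := fun g hg => H.mem_of_invariant hS hE.1 hr (by
    intro α _ u hu
    rw [Subgroup.mem_subgroupOf] at hu ⊢
    refine hcenter _ (α u).2 (fun v hv => ?_)
    have h1 : u * α⁻¹ ⟨v, hv⟩ = α⁻¹ ⟨v, hv⟩ * u :=
      Subtype.ext ((AbIdx.mem_Z_iff.1 hu).2 _ (hES (α⁻¹ ⟨v, hv⟩).2)).symm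
    have h2 := congrArg α h1
    rw [map_mul, map_mul, MulAut.apply_inv_self] at h2
    exact congrArg Subtype.val h2) hg
  exact absurd hle (not_le_of_gt hlt)

theorem exists_moving (H : HeisLike S) (hS : IsPGroup p S) (hF : F.IsSaturated p)
    (hE : F.IsEssential p E) :
    ∃ γ ∈ F.autGroup E, ∃ ζ ∈ (S ⊓ Subgroup.centralizer (S : Set Ω)).subgroupOf E,
      γ ζ ∉ (S ⊓ Subgroup.centralizer (S : Set Ω)).subgroupOf E := by
  by_contra hcon
  push Not at hcon
  have hr := Cfsg.Agent.S5080.result p hS F hF E hE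
  have hlt := Helper86.Oliver.essential_lt hS hF hE
  have hle : S ≤ E := fun g hg => H.mem_of_invariant hS hE.1 hr hcon hg
  exact absurd hle (not_le_of_gt hlt)

/-- A nontrivial subgroup normal in `F` is not contained in `Z(S)` if there is an essential
subgroup. -/
theorem not_le_center (H : HeisLike S) (hS : IsPGroup p S) (hF : F.IsSaturated p)
    (hE : F.IsEssential p E) {Q : Subgroup Ω} (hQ : F.IsNormal Q) (hQ1 : Q ≠ ⊥) :
    ¬ Q ≤ S ⊓ Subgroup.centralizer (S : Set Ω) := by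
  intro hQZ
  have hES := hE.1.1
  have hZE := Z_le_of_centric hE.1
  have : Finite E := finite_of_le hES
  have hfa := Helper86.sat_fullyAutomized_of_fullyNormalized hS F hF hE.2.1
  obtain ⟨hQE, hinv⟩ := (Helper86.isNormal_iff_invariant hS F hF Q).1 hQ E (Or.inr hE)
  obtain ⟨γ, hγ, ζ, hζ, hγζ⟩ := H.exists_moving hS hF hE
  obtain ⟨w, hw, hw1⟩ := (Subgroup.ne_bot_iff_exists_ne_one).1 hQ1 |>.elim
    (fun w hw => (⟨w.1, w.2, fun h => hw (Subtype.ext h)⟩ : ∃ w ∈ Q, w ≠ 1))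
  have hinv' : ∀ α ∈ F.autGroup E, ∀ u ∈ Q.subgroupOf E, α u ∈ Q.subgroupOf E := by
    intro α hα u hu
    rw [← hinv α hα]
    exact ⟨u, hu, rfl⟩
  have hz1 : ((γ ζ : E) : Ω)⁻¹ ∉ S ⊓ Subgroup.centralizer (S : Set Ω) := by
    intro h
    apply hγζ
    rw [Subgroup.mem_subgroupOf]
    have := Subgroup.inv_mem _ h
    rwa [inv_inv] at this
  obtain ⟨s, hs, hsw⟩ := H.sur _ (S.inv_mem (hES (γ ζ).2)) hz1 w (hQZ hw)
  have hsN : s ∈ normalizerIn S E := ⟨hs, H.normalizes hES hZE hs⟩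
  obtain ⟨t, ht, e⟩ := exists_conj_aut F hES hsN
  have htT : t ∈ autInducedBy S E := (mem_autInducedBy_iff S E t).2 ⟨s, hs, e⟩
  have hsyl := isSylIn_of_fullyAutomized hfa
  have hfixT : ∀ t' ∈ autInducedBy S E,
      ∀ u ∈ (S ⊓ Subgroup.centralizer (S : Set Ω)).subgroupOf E, t' u = u := by
    intro t' ht' u hu
    obtain ⟨g, hg, e'⟩ := (mem_autInducedBy_iff S E t').1 ht'
    apply Subtype.ext
    rw [e', (AbIdx.mem_Z_iff.1 (Subgroup.mem_subgroupOf.1 hu)).2 g hg, mul_inv_cancel_right]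
  set wE : E := ⟨w, hQE hw⟩ with hwE
  have htz : t (γ ζ) = γ ζ * wE := by
    apply Subtype.ext
    rw [e, Subgroup.coe_mul]
    show _ = ((γ ζ : E) : Ω) * w
    rw [← hsw]
    group
  have hQY : Q.subgroupOf E ≤ (S ⊓ Subgroup.centralizer (S : Set Ω)).subgroupOf E :=
    fun u hu => Subgroup.mem_subgroupOf.2 (hQZ (Subgroup.mem_subgroupOf.1 hu))
  have hτζ : (γ⁻¹ * t * γ) ζ = ζ * γ⁻¹ wE := by
    show γ⁻¹ (t (γ ζ)) = _
    rw [htz, map_mul, MulAut.inv_apply_self]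
  have hτQ : ∀ u ∈ Q.subgroupOf E, (γ⁻¹ * t * γ) u = u := by
    intro u hu
    show γ⁻¹ (t (γ u)) = u
    rw [hfixT t htT _ (hQY (hinv' γ hγ u hu)), MulAut.inv_apply_self]
  have hwQ : γ⁻¹ wE ∈ Q.subgroupOf E :=
    hinv' _ ((F.autGroup E).inv_mem hγ) wE (Subgroup.mem_subgroupOf.2 hw)
  have hτp : IsPGroup p (Subgroup.zpowers (γ⁻¹ * t * γ)) := by
    obtain ⟨k, hk⟩ := hsyl.2.1 ⟨t, htT⟩
    have hk' : t ^ (p ^ k) = 1 := congrArg Subtype.val hk
    refine isPGroup_zpowers_of_pow (k := k) ?_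
    have : γ⁻¹ * t * γ = MulAut.conj γ⁻¹ t := by simp
    rw [this, ← map_pow, hk', map_one]
  have key := fix_of_sylow_fix hsyl (Subgroup.zpowers ζ ⊔ Q.subgroupOf E)
    (fun t' ht' u hu => hfixT t' ht' u ((sup_le (Subgroup.zpowers_le.2 hζ) hQY) hu))
    ((F.autGroup E).mul_mem ((F.autGroup E).mul_mem ((F.autGroup E).inv_mem hγ) ht) hγ) hτp (by
      have hle : Subgroup.zpowers ζ ⊔ Q.subgroupOf E ≤
          (Subgroup.zpowers ζ ⊔ Q.subgroupOf E).comap (γ⁻¹ * t * γ).toMonoidHom := by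
        refine sup_le (Subgroup.zpowers_le.2 ?_) (fun u hu => ?_)
        · rw [Subgroup.mem_comap]
          show (γ⁻¹ * t * γ) ζ ∈ Subgroup.zpowers ζ ⊔ Q.subgroupOf E
          rw [hτζ]
          exact Subgroup.mul_mem _ (Subgroup.mem_sup_left (Subgroup.mem_zpowers ζ))
            (Subgroup.mem_sup_right hwQ)
        · rw [Subgroup.mem_comap]
          show (γ⁻¹ * t * γ) u ∈ Subgroup.zpowers ζ ⊔ Q.subgroupOf E
          rw [hτQ u hu]
          exact Subgroup.mem_sup_right hu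
      exact fun u hu => hle hu) ζ (Subgroup.mem_sup_left (Subgroup.mem_zpowers ζ))
  rw [hτζ] at key
  have h1 : γ⁻¹ wE = 1 := mul_eq_left.1 key
  have h2 : wE = 1 := by
    have := congrArg γ h1
    rwa [MulAut.apply_inv_self, map_one] at this
  exact hw1 (congrArg Subtype.val h2)

theorem isCentric_top (F : FusionSystem S) : F.IsCentric S := by
  refine ⟨le_rfl, fun Q hQ => ?_⟩
  have h1 : Q ≤ S := isConj_le' hQ
  have h2 : Nat.card S = Nat.card Q := isConj_card hQ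
  have h3 : Q = S := Subgroup.eq_of_le_of_card_ge h1 h2.le
  rw [h3]
  exact inf_le_left

/-- A saturated fusion system with `O_p(F) ≠ 1` over a Heisenberg-like group is constrained. -/
theorem constrained (H : HeisLike S) (hS : IsPGroup p S) (hF : F.IsSaturated p)
    (hcore : F.core ≠ ⊥) : F.IsConstrained p := by
  refine ⟨hF, ?_⟩
  by_cases hess : ∃ E, F.IsEssential p E
  · obtain ⟨E, hE⟩ := hess
    obtain ⟨Q, hQ, hQ1⟩ : ∃ Q : Subgroup Ω, F.IsNormal Q ∧ Q ≠ ⊥ := by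
      by_contra hcon
      push Not at hcon
      apply hcore
      rw [eq_bot_iff]
      exact sSup_le (fun Q hQ => (hcon Q hQ).le)
    have hES := hE.1.1
    have hab := H.essential_abelian hS hF hE
    obtain ⟨hQE, -⟩ := (Helper86.isNormal_iff_invariant hS F hF Q).1 hQ E (Or.inr hE)
    have hnot := H.not_le_center hS hF hE hQ hQ1
    obtain ⟨v, hvQ, hvZ⟩ := SetLike.not_le_iff_exists.1 hnot
    have hcent : ∀ u ∈ S, (∀ q ∈ Q, u * q = q * u) → u ∈ E := by
      intro u hu hc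
      apply hE.1.2 E (isConj_refl F hES)
      rw [mem_centralizerIn_iff]
      refine ⟨hu, fun x hx => ?_⟩
      exact H.cab v (hES (hQE hvQ)) hvZ x (hES hx) u hu (hab x hx v (hQE hvQ)) (hc v hvQ)
    refine ⟨E, ?_, hE.1⟩
    refine Helper86.isNormal_of_abelian_stronglyClosed hS F hF
      ⟨⟨fun a b => Subtype.ext (hab a a.2 b b.2)⟩⟩ ⟨hES, fun R hR φ hφ x => ?_⟩
    obtain ⟨ψ, hψ, hψφ, hψQ⟩ := hQ.2 R φ hφ
    refine hcent _ ((F.le_of_mem hφ).2 x) (fun q hq => ?_)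
    have hq' : q ∈ (Q.subgroupOf (R ⊔ Q)).map ψ := by rw [hψQ]; exact hq
    obtain ⟨q', hq'Q, rfl⟩ := hq'
    rw [← hψφ x, ← map_mul, ← map_mul]
    congr 1
    apply Subtype.ext
    exact hab _ (hR x.2) _ (hQE (Subgroup.mem_subgroupOf.1 hq'Q))
  · push Not at hess
    refine ⟨S, ?_, isCentric_top F⟩
    refine Helper86.isNormal_of_invariant hS F hF (fun P hP => ?_)
    rcases hP with rfl | hP
    · refine ⟨le_rfl, fun α _ => ?_⟩
      rw [Subgroup.subgroupOf_self]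
      exact Subgroup.map_top_of_surjective _ α.surjective
    · exact absurd hP (hess P)

end HeisLike

end Cfsg.Agent.Lib.Helper89
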