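import Mathlib
import Cfsg.Agent.Lib.Helper67.Heisenberg
import Cfsg.Agent.Lib.Helper6.SLCard

set_option autoImplicit false

namespace Cfsg.Agent.Lib.Helper89

open scoped commutatorElement
open Matrix Cfsg.Agent.Lib.Helper67

/-- Type-level version of `HeisLike`. -/
structure HeisT (G : Type*) [Group G] : Prop where
  cls : ∀ a b : G, a * b * a⁻¹ * b⁻¹ ∈ Subgroup.center G
  cab : ∀ x : G, x ∉ Subgroup.center G → ∀ u v : G, u * x = x * u → v * x = x * v → u * v = v * u
  sur : ∀ x : G, x ∉ Subgroup.center G → ∀ z ∈ Subgroup.center G, ∃ s : G, x * s * x⁻¹ * s⁻¹ = z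

theorem mem_center_equiv {G G' : Type*} [Group G] [Group G'] (e : G ≃* G') (x : G) :
    e x ∈ Subgroup.center G' ↔ x ∈ Subgroup.center G := by
  rw [Subgroup.mem_center_iff, Subgroup.mem_center_iff]
  constructor
  · intro h g
    apply e.injective
    rw [map_mul, map_mul, h]
  · intro h g
    obtain ⟨g', rfl⟩ := e.surjective g
    rw [← map_mul, ← map_mul, h]

theorem HeisT.of_equiv {G G' : Type*} [Group G] [Group G'] (e : G ≃* G') (h : HeisT G) :
    HeisT G' := by
  refine ⟨fun a b => ?_, fun x hx u v hu hv => ?_, fun x hx z hz => ?_⟩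
  · obtain ⟨a, rfl⟩ := e.surjective a
    obtain ⟨b, rfl⟩ := e.surjective b
    rw [← map_mul, ← map_inv, ← map_mul, ← map_inv, ← map_mul, mem_center_equiv]
    exact h.cls a b
  · obtain ⟨x, rfl⟩ := e.surjective x
    obtain ⟨u, rfl⟩ := e.surjective u
    obtain ⟨v, rfl⟩ := e.surjective v
    rw [mem_center_equiv] at hx
    rw [← map_mul, ← map_mul] at hu hv ⊢
    rw [h.cab x hx u v (e.injective hu) (e.injective hv)]
  · obtain ⟨x, rfl⟩ := e.surjective x
    obtain ⟨z, rfl⟩ := e.surjective z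
    rw [mem_center_equiv] at hx hz
    obtain ⟨s, hs⟩ := h.sur x hx z hz
    refine ⟨e s, ?_⟩
    rw [← map_mul, ← map_inv, ← map_mul, ← map_inv, ← map_mul, hs]

variable {K : Type*} [Field K]

theorem heis_comm_iff (x y : Heis (Fin 1) K) :
    x * y = y * x ↔ x.a 0 * y.b 0 = y.a 0 * x.b 0 := by
  rw [← commutatorElement_eq_one_iff_mul_comm, Heis.comm_eq]
  constructor
  · intro h
    have := congrArg Heis.c h
    simp only [dotProduct, Finset.univ_unique, Fin.default_eq_zero, Fin.isValue,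
      Finset.sum_singleton, Heis.one_c] at this
    exact sub_eq_zero.1 this
  · intro h
    ext1
    · rfl
    · rfl
    · simp only [dotProduct, Finset.univ_unique, Fin.default_eq_zero, Fin.isValue,
        Finset.sum_singleton, Heis.one_c]
      exact sub_eq_zero.2 h

theorem heis_not_mem_center (x : Heis (Fin 1) K) (hx : x ∉ Subgroup.center (Heis (Fin 1) K)) :
    x.a 0 ≠ 0 ∨ x.b 0 ≠ 0 := by
  by_contra h
  push Not at h
  apply hx
  rw [Heis.mem_center_iff]
  constructor
  · funext i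
    rw [Subsingleton.elim i 0]
    exact h.1
  · funext i
    rw [Subsingleton.elim i 0]
    exact h.2

theorem heisT_heis : HeisT (Heis (Fin 1) K) := by
  refine ⟨fun a b => ?_, fun x hx u v hu hv => ?_, fun x hx z hz => ?_⟩
  · rw [← commutatorElement_def, Heis.comm_eq, Heis.mem_center_iff]
    exact ⟨rfl, rfl⟩
  · rw [heis_comm_iff] at hu hv ⊢
    have h1 : x.a 0 * (u.a 0 * v.b 0 - v.a 0 * u.b 0) = 0 := by
      linear_combination (-(u.a 0)) * hv + (v.a 0) * hu
    have h2 : x.b 0 * (u.a 0 * v.b 0 - v.a 0 * u.b 0) = 0 := by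
      linear_combination (v.b 0) * hu - (u.b 0) * hv
    rcases heis_not_mem_center x hx with h | h
    · exact sub_eq_zero.1 ((mul_eq_zero.1 h1).resolve_left h)
    · exact sub_eq_zero.1 ((mul_eq_zero.1 h2).resolve_left h)
  · rw [Heis.mem_center_iff] at hz
    rcases heis_not_mem_center x hx with h | h
    · refine ⟨⟨0, fun _ => z.c / x.a 0, 0⟩, ?_⟩
      rw [← commutatorElement_def, Heis.comm_eq]
      ext1
      · exact hz.1.symm
      · exact hz.2.symm
      · simp only [dotProduct, Finset.univ_unique, Fin.default_eq_zero, Fin.isValue,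
          Finset.sum_singleton, Pi.zero_apply, zero_mul, sub_zero]
        field_simp
    · refine ⟨⟨fun _ => - z.c / x.b 0, 0, 0⟩, ?_⟩
      rw [← commutatorElement_def, Heis.comm_eq]
      ext1
      · exact hz.1.symm
      · exact hz.2.symm
      · simp only [dotProduct, Finset.univ_unique, Fin.default_eq_zero, Fin.isValue,
          Finset.sum_singleton, Pi.zero_apply, mul_zero, zero_sub]
        field_simp

/-- The upper unitriangular matrix in `SL₃`. -/
def u3 (a b c : K) : SpecialLinearGroup (Fin 3) K :=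
  ⟨!![1, a, c; 0, 1, b; 0, 0, 1], by simp [det_fin_three]⟩

theorem u3_val (a b c : K) :
    ((u3 a b c : SpecialLinearGroup (Fin 3) K) : Matrix (Fin 3) (Fin 3) K) =
      !![1, a, c; 0, 1, b; 0, 0, 1] := rfl

theorem u3_mul (a b c a' b' c' : K) :
    u3 a b c * u3 a' b' c' = u3 (a + a') (b + b') (c + c' + a * b') := by
  ext i j
  fin_cases i <;> fin_cases j <;>
    simp [u3_val, Matrix.mul_apply, Fin.sum_univ_three, add_comm]
  ring

theorem u3_zero : u3 (0 : K) 0 0 = 1 := by
  ext i j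
  fin_cases i <;> fin_cases j <;> simp [u3]

/-- The Heisenberg group as the unitriangular subgroup of `SL₃`. -/
def u3Hom (K : Type*) [Field K] : Heis (Fin 1) K →* SpecialLinearGroup (Fin 3) K where
  toFun x := u3 (x.a 0) (x.b 0) x.c
  map_one' := u3_zero
  map_mul' x y := by
    rw [u3_mul]
    simp [dotProduct]

theorem u3Hom_injective : Function.Injective (u3Hom K) := by
  intro x y h
  have h' : u3 (x.a 0) (x.b 0) x.c = u3 (y.a 0) (y.b 0) y.c := h
  have e : ∀ i j, (u3 (x.a 0) (x.b 0) x.c).1 i j = (u3 (y.a 0) (y.b 0) y.c).1 i j := by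
    intro i j
    rw [h']
  have h1 := e 0 1
  have h2 := e 1 2
  have h3 := e 0 2
  simp [u3] at h1 h2 h3
  ext1
  · funext i
    rw [Subsingleton.elim i 0]
    exact h1
  · funext i
    rw [Subsingleton.elim i 0]
    exact h2
  · exact h3

theorem card_SL3 [Fintype K] : Nat.card (SpecialLinearGroup (Fin 3) K) =
    Fintype.card K ^ 3 * ((Fintype.card K ^ 3 - 1) * (Fintype.card K ^ 2 - 1)) := by
  have h1 := Cfsg.Agent.Lib.Helper6.card_SL_field (F := K) 3 (by norm_num)
  have hq : 1 < Fintype.card K := Fintype.one_lt_card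
  obtain ⟨t, ht⟩ : ∃ t, Fintype.card K = t + 2 := ⟨Fintype.card K - 2, by omega⟩
  rw [ht] at h1 ⊢
  simp only [Fin.prod_univ_three, Fin.val_zero, Fin.val_one, Fin.val_two, pow_zero, pow_one] at h1
  have e1 : t + 2 - 1 = t + 1 := by omega
  have e2 : (t + 2) ^ 3 - 1 = (t + 1) * (t ^ 2 + 5 * t + 7) := by
    have : (t + 2) ^ 3 = (t + 1) * (t ^ 2 + 5 * t + 7) + 1 := by ring
    omega
  have e3 : (t + 2) ^ 3 - (t + 2) = (t + 2) * ((t + 1) * (t + 3)) := by
    have : (t + 2) ^ 3 = (t + 2) * ((t + 1) * (t + 3)) + (t + 2) := by ring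
    omega
  have e4 : (t + 2) ^ 3 - (t + 2) ^ 2 = (t + 2) ^ 2 * (t + 1) := by
    have : (t + 2) ^ 3 = (t + 2) ^ 2 * (t + 1) + (t + 2) ^ 2 := by ring
    omega
  have e5 : (t + 2) ^ 2 - 1 = (t + 1) * (t + 3) := by
    have : (t + 2) ^ 2 = (t + 1) * (t + 3) + 1 := by ring
    omega
  rw [e1, e2, e3, e4] at h1
  rw [e2, e5]
  have : 0 < t + 1 := by omega
  apply Nat.eq_of_mul_eq_mul_left this
  rw [h1]; ring

theorem card_sylow_SL3 [Fintype K] (p : ℕ) [Fact p.Prime] [CharP K p]
    (P : Sylow p (SpecialLinearGroup (Fin 3) K)) : Nat.card P = Fintype.card K ^ 3 := by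
  obtain ⟨k, hp, hk⟩ := FiniteField.card K p
  have hq : 1 < Fintype.card K := Fintype.one_lt_card
  have hnd : ∀ m : ℕ, m ≠ 0 → ¬ p ∣ Fintype.card K ^ m - 1 := by
    intro m hm hd
    have h1 : p ∣ Fintype.card K ^ m := by
      rw [hk]; exact dvd_pow (dvd_pow_self p k.pos.ne') hm
    have h2 : 1 ≤ Fintype.card K ^ m := Nat.one_le_pow _ _ (by omega)
    have h3 : p ∣ 1 := by
      have := Nat.dvd_sub h1 hd
      rwa [Nat.sub_sub_self h2] at this
    exact hp.one_lt.ne' (Nat.dvd_one.1 h3)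
  have hnd' : ¬ p ∣ (Fintype.card K ^ 3 - 1) * (Fintype.card K ^ 2 - 1) := by
    intro h
    rcases hp.dvd_mul.1 h with h | h
    · exact hnd 3 (by norm_num) h
    · exact hnd 2 (by norm_num) h
  have hne : (Fintype.card K ^ 3 - 1) * (Fintype.card K ^ 2 - 1) ≠ 0 :=
    fun h => hnd' (h ▸ dvd_zero p)
  have hne3 : Fintype.card K ^ 3 ≠ 0 := pow_ne_zero _ (by omega)
  rw [Sylow.card_eq_multiplicity, card_SL3, Nat.factorization_mul hne3 hne,
    Finsupp.add_apply, Nat.factorization_eq_zero_of_not_dvd hnd', add_zero]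
  conv_rhs => rw [hk]
  rw [hk, ← pow_mul, hp.factorization_pow, Finsupp.single_eq_same]

/-- Every Sylow `p`-subgroup of `SL₃(K)`, `K` finite of characteristic `p`, is a Heisenberg group. -/
theorem sylow_SL3_equiv [Fintype K] (p : ℕ) [Fact p.Prime] [CharP K p]
    (T : Sylow p (SpecialLinearGroup (Fin 3) K)) :
    Nonempty (Heis (Fin 1) K ≃* ↥(T : Subgroup (SpecialLinearGroup (Fin 3) K))) := by
  obtain ⟨k, hp, hk⟩ := FiniteField.card K p
  have hcard : Nat.card (u3Hom K).range = Fintype.card K ^ 3 := by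
    rw [← Nat.card_congr (MonoidHom.ofInjective u3Hom_injective).toEquiv, Heis.card_eq]
    simp
  have hU : IsPGroup p (u3Hom K).range :=
    IsPGroup.of_card (n := k * 3) (by rw [hcard, hk, pow_mul])
  obtain ⟨P, hP⟩ := hU.exists_le_sylow
  have hPe : (u3Hom K).range = (P : Subgroup _) := by
    refine Subgroup.eq_of_le_of_card_ge hP ?_
    rw [hcard]
    exact (card_sylow_SL3 p P).le
  exact ⟨((MonoidHom.ofInjective u3Hom_injective).trans (MulEquiv.subgroupCongr hPe)).trans
    (Sylow.equiv P T)⟩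

theorem heisT_sylow_SL3 [Fintype K] (p : ℕ) [Fact p.Prime] [CharP K p]
    (T : Sylow p (SpecialLinearGroup (Fin 3) K)) :
    HeisT ↥(T : Subgroup (SpecialLinearGroup (Fin 3) K)) := by
  obtain ⟨e⟩ := sylow_SL3_equiv p T
  exact heisT_heis.of_equiv e

end Cfsg.Agent.Lib.Helper89
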