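import Cfsg.Agent.Lib.Helper89.SubReal

set_option autoImplicit false

universe u

namespace Cfsg.Agent.Lib.Helper89

open Cfsg Cfsg.FusionSystem Cfsg.Agent.Lib.Helper87 Cfsg.Agent.Lib.Helper77
open Cfsg.Agent.Lib.Helper62 Cfsg.Agent.Lib.Helper15.ZJ

/-- `F / Q` nilpotent gives a `p`-nilpotent quotient of the group. -/
theorem npc_quotient_of_qNil {Ω : Type*} [Group Ω] {S : Subgroup Ω} {G : Type u} [Group G]
    [Finite G] [Finite S] {p : ℕ} [Fact p.Prime] {F : FusionSystem S} {j : S →* G}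
    (h : SubReal F j) (T : Sylow p G) (hT : (T : Subgroup G) = j.range) {Q : Subgroup Ω}
    (hQS : Q ≤ S) [hn : ((Q.subgroupOf S).map j).Normal] (hq : QNil F p Q) :
    NPC p (G ⧸ (Q.subgroupOf S).map j) := by
  set Q' : Subgroup G := (Q.subgroupOf S).map j with hQ'
  have hsurj := QuotientGroup.mk'_surjective Q'
  rw [npc_iff_frobCond]
  apply frobCond_of_sylow (T.mapSurjective hsurj)
  intro Pb hPb gb hgb hgo
  obtain ⟨g, rfl⟩ := hsurj gb
  set P₁ : Subgroup G := Pb.comap (QuotientGroup.mk' Q') with hP₁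
  have hQ'r : Q' ≤ j.range := map_le_range j Q
  have hP₁r : P₁ ≤ j.range := by
    intro y hy
    have h1 := hPb (Subgroup.mem_comap.1 hy)
    rw [Sylow.coe_mapSurjective] at h1
    obtain ⟨t, ht, e⟩ := h1
    have h2 : t⁻¹ * y ∈ Q' := QuotientGroup.eq.1 e
    have h3 : y = t * (t⁻¹ * y) := by group
    rw [h3]
    exact Subgroup.mul_mem _ (hT ▸ ht) (hQ'r h2)
  have hgP₁ : ∀ y ∈ P₁, g * y * g⁻¹ ∈ P₁ := by
    intro y hy
    rw [hP₁, Subgroup.mem_comap, map_mul, map_mul, map_inv]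
    exact (Subgroup.mem_normalizer_iff.1 hgb _).1 hy
  set P : Subgroup Ω := pre j P₁ with hP
  have hPS : P ≤ S := pre_le j P₁
  have hmap : (P.subgroupOf S).map j = P₁ := map_pre j hP₁r
  obtain ⟨α, hα, hαg⟩ := h.exists_aut hPS (g := g) (by rw [hmap]; exact hgP₁)
  have hQP : Q ≤ P := fun x hx => by
    refine (mem_pre j P₁ x).2 ⟨hQS hx, ?_⟩
    rw [hP₁, Subgroup.mem_comap]
    have : QuotientGroup.mk' Q' (tf j x) = 1 :=
      (QuotientGroup.eq_one_iff _).2 (tf_mem_map j hQS hx)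
    rw [this]
    exact Subgroup.one_mem _
  obtain ⟨k, hk⟩ := hq P hQP hPS α hα
  have hcent : ∀ y ∈ P₁, y⁻¹ * (g ^ p ^ k * y * (g ^ p ^ k)⁻¹) ∈ Q' := by
    intro y hy
    have hx : tinv j y ∈ P :=
      (mem_pre j P₁ _).2 ⟨tinv_mem j _, by rw [tf_tinv j (hP₁r hy)]; exact hy⟩
    have h1 := tf_autFun_pow α g hαg (p ^ k) _ hx
    rw [tf_tinv j (hP₁r hy)] at h1
    have h2 := hk ⟨tinv j y, hx⟩
    rw [← autFun_coe] at h2
    have h3 := tf_mem_map j hQS h2
    rw [tf_mul j (S.inv_mem (tinv_mem j y)) (hPS (autFun_mem _ hx)), tf_inv j (tinv_mem j y),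
      tf_tinv j (hP₁r hy), h1] at h3
    exact h3
  obtain ⟨m, hm⟩ := exists_pow_eq_self_of_coprime (x := QuotientGroup.mk' Q' g) (n := p ^ k)
    (Nat.Coprime.pow_left k hgo.symm)
  rw [Subgroup.mem_centralizer_iff]
  intro q hq'
  obtain ⟨y, rfl⟩ := hsurj q
  have h2 : Commute ((QuotientGroup.mk' Q' g) ^ p ^ k) (QuotientGroup.mk' Q' y) := by
    have h3 := (QuotientGroup.eq_one_iff _).2 (hcent y hq')
    have h4 : (QuotientGroup.mk' Q' y)⁻¹ * ((QuotientGroup.mk' Q' g) ^ p ^ k *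
        (QuotientGroup.mk' Q' y) * ((QuotientGroup.mk' Q' g) ^ p ^ k)⁻¹) = 1 := by
      rw [← map_pow, ← map_inv, ← map_inv, ← map_mul, ← map_mul, ← map_mul]
      exact h3
    have h5 := inv_mul_eq_one.1 h4
    exact (mul_inv_eq_iff_eq_mul.1 h5.symm)
  have h3 : Commute (((QuotientGroup.mk' Q' g) ^ p ^ k) ^ m) (QuotientGroup.mk' Q' y) :=
    h2.pow_left m
  rw [hm] at h3
  exact h3.eq.symm

theorem exists_min_overgroup {G : Type u} [Group G] [Finite G] {p : ℕ} [Fact p.Prime]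
    (T : Sylow p G) (hG : ¬ NPC p G) :
    ∃ L : Subgroup G, (T : Subgroup G) ≤ L ∧ ¬ NPC p L ∧
      ∀ M : Subgroup G, (T : Subgroup G) ≤ M → M < L → NPC p M := by
  obtain ⟨L, ⟨hTL, hL⟩, hmin⟩ := Set.exists_min_image
    {L : Subgroup G | (T : Subgroup G) ≤ L ∧ ¬ NPC p L}
    (fun L => Nat.card L) (Set.toFinite _) ⟨⊤, le_top, fun h => hG (NPC.of_top h)⟩
  refine ⟨L, hTL, hL, fun M hTM hML => ?_⟩
  by_contra hcon
  have h1 := hmin M ⟨hTM, hcon⟩
  have h2 := card_lt_card_of_lt hML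
  omega

theorem isCoatom_of_min {L : Type u} [Group L] [Finite L] {p : ℕ} [Fact p.Prime] (T : Sylow p L)
    (R : Subgroup L) [hRn : R.Normal] (hRp : IsPGroup p R)
    (hC : Subgroup.centralizer (R : Set L) ≤ R) (hL : ¬ NPC p L)
    (hmin : ∀ M : Subgroup L, (T : Subgroup L) ≤ M → M ≠ ⊤ → NPC p M) :
    IsCoatom (T : Subgroup L) := by
  constructor
  · intro htop
    apply hL
    apply NPC.of_isPGroup
    have := T.2
    rw [htop] at this
    exact this.of_equiv Subgroup.topEquiv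
  · intro M hTM
    by_contra hM
    obtain ⟨O, hOn, hOc, k, hk⟩ := hmin M hTM.le hM
    have hRT : R ≤ T := hRp.le_sylow_of_normal T
    have hRM : R ≤ M := hRT.trans hTM.le
    have hdisj : ∀ x : M, x ∈ O → (x : L) ∈ R → x = 1 := by
      intro x hxO hxR
      have h1 : orderOf x ∣ Nat.card O := by
        have := orderOf_dvd_natCard (⟨x, hxO⟩ : O)
        rwa [Subgroup.orderOf_mk] at this
      obtain ⟨n, hn⟩ := (IsPGroup.iff_orderOf.1 hRp) ⟨(x : L), hxR⟩
      rw [Subgroup.orderOf_mk, Subgroup.orderOf_coe] at hn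
      have h2 : (orderOf x).Coprime (p ^ n) :=
        Nat.Coprime.pow_right n (Nat.Coprime.coprime_dvd_left h1 hOc)
      rw [← hn, Nat.coprime_self] at h2
      exact orderOf_eq_one_iff.1 h2
    have hObot : O = ⊥ := by
      rw [eq_bot_iff]
      intro o ho
      rw [Subgroup.mem_bot]
      apply hdisj o ho
      apply hC
      rw [Subgroup.mem_centralizer_iff]
      intro r hr
      have h1 : o * ⟨r, hRM hr⟩ * o⁻¹ * (⟨r, hRM hr⟩ : M)⁻¹ = 1 := by
        apply hdisj
        · have h2 : o * ⟨r, hRM hr⟩ * o⁻¹ * (⟨r, hRM hr⟩ : M)⁻¹ =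
              o * (⟨r, hRM hr⟩ * o⁻¹ * (⟨r, hRM hr⟩ : M)⁻¹) := by group
          rw [h2]
          exact O.mul_mem ho (hOn.conj_mem _ (O.inv_mem ho) _)
        · exact R.mul_mem (hRn.conj_mem r hr _) (R.inv_mem hr)
      have h2 := congrArg Subtype.val h1
      have h3 : (o : L) * r * (o : L)⁻¹ * r⁻¹ = 1 := h2
      have h4 := mul_inv_eq_one.1 h3
      exact (mul_inv_eq_iff_eq_mul.1 h4).symm
    rw [hObot, Subgroup.index_bot] at hk
    have hMp : IsPGroup p M := IsPGroup.of_card hk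
    exact hTM.ne (T.3 hMp hTM.le).symm

/-- Structure of a non-nilpotent saturated fusion system at an odd prime: a "minimal" group `H`
containing `S` as a maximal subgroup and Sylow subgroup, whose fusion lies in `F`, which is not
`p`-nilpotent, is of characteristic `p` and of the shape `p`-group / abelian `p'`-group /
`p`-group (in particular `p`-stable). -/
theorem exists_minimal_obstruction {Ω : Type u} [Group Ω] {S : Subgroup Ω} [Finite S] {p : ℕ}
    [Fact p.Prime] (hp : p ≠ 2) (hS : IsPGroup p S) {F : FusionSystem S} (hF : F.IsSaturated p)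
    (hnil : ¬ Nil F p) :
    ∃ (H : Type u) (_ : Group H) (_ : Finite H) (j : S →* H) (T : Sylow p H) (R K : Subgroup H),
      SubReal F j ∧ (T : Subgroup H) = j.range ∧ ¬ NPC p H ∧ IsCoatom (T : Subgroup H) ∧
      PAP p R K ∧ Subgroup.centralizer (R : Set H) ≤ R := by
  obtain ⟨Q, N, hQS, hQ1, hQN, hN, hNsat, hNn, hQn, hmaxF, hq, hC⟩ :=
    exists_local_obstruction hS (fun (_ : Unit) => isPFunctor_centerThompsonA p) hF
      (fun Ω' _ S' _ E hS' _ hE => gt_main (fun _ => isPFunctor_centerThompsonA p)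
        (groupHyp_centerThompsonA p hp) _ Ω' S' E hS' rfl hE) hnil
  have hfin₁ : Finite (normalizerIn S Q) := finite_of_le (normalizerIn_le S Q)
  have hS₁ : IsPGroup p (normalizerIn S Q) := hS.to_le (normalizerIn_le S Q)
  have hsub := normalizerSystem_subsystem hN
  have hcon : N.IsConstrained p := by
    refine ⟨hNsat, Q, hNn, hNn.1, fun Q' hQ' => ?_⟩
    rw [IsNormal.eq_of_isConj hNn hQ']
    intro x hx
    exact hC ⟨hx.1.1, hx.2⟩
  obtain ⟨G, _, ιG, hmodel⟩ := Cfsg.Agent.S5090.result p hS₁ N hcon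
  have hQ'n := IsModel.map_normal hmodel hNn
  obtain ⟨hfin, hr, ⟨T, hT⟩, hCG⟩ := hmodel
  have hGn : ¬ NPC p G := fun h =>
    hQn (pAut_of_nil_normalizerSystem hN (nil_of_npc hS₁ hr h))
  have hsr := subReal_of_realized hr
  have hq1 : NPC p (G ⧸ (Q.subgroupOf (normalizerIn S Q)).map ιG) :=
    npc_quotient_of_qNil hsr T hT hNn.1 hq
  have hRn : (pCore p G).Normal := pCore_normal' p G
  have hRp : IsPGroup p (pCore p G) := Cfsg.Agent.Lib.Helper14.isPGroup_pCore
  have hQ'R : (Q.subgroupOf (normalizerIn S Q)).map ιG ≤ pCore p G :=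
    le_pCore' hQ'n ((hS₁.to_subgroup _).map _)
  have hq2 : NPC p (G ⧸ pCore p G) := by
    refine NPC.of_surjective (QuotientGroup.map _ (pCore p G) (MonoidHom.id G) hQ'R) ?_ hq1
    intro y
    obtain ⟨x, rfl⟩ := QuotientGroup.mk'_surjective _ y
    exact ⟨QuotientGroup.mk' _ x, rfl⟩
  obtain ⟨L, hTL, hLn, hLmin⟩ := exists_min_overgroup T hGn
  have hRL : pCore p G ≤ L := (hRp.le_sylow_of_normal T).trans hTL
  set RL : Subgroup L := (pCore p G).subgroupOf L with hRLdef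
  have hRLn : RL.Normal := inferInstance
  have hRLp : IsPGroup p RL := hRp.comap_subtype
  have hRLc : Subgroup.centralizer (RL : Set L) ≤ RL := by
    intro x hx
    rw [hRLdef, Subgroup.mem_subgroupOf]
    apply hCG
    rw [Subgroup.mem_centralizer_iff] at hx ⊢
    intro r hr'
    exact congrArg Subtype.val (hx ⟨r, hRL hr'⟩ (Subgroup.mem_subgroupOf.2 hr'))
  have hq3 : NPC p (L ⧸ RL) := by
    refine NPC.of_injective (QuotientGroup.map RL (pCore p G) L.subtype le_rfl) ?_ hq2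
    rw [injective_iff_map_eq_one]
    intro y hy
    obtain ⟨x, rfl⟩ := QuotientGroup.mk'_surjective _ y
    have h1 : ((x : G) : G ⧸ pCore p G) = 1 := hy
    exact (QuotientGroup.eq_one_iff _).2 (Subgroup.mem_subgroupOf.2 ((QuotientGroup.eq_one_iff _).1 h1))
  have hco : IsCoatom ((T.subtype hTL : Sylow p L) : Subgroup L) := by
    apply isCoatom_of_min (T.subtype hTL) RL hRLp hRLc hLn
    intro M hTM hM
    have h1 : (T : Subgroup G) ≤ M.map L.subtype := by
      intro t ht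
      exact ⟨⟨t, hTL ht⟩, hTM (by rw [Sylow.coe_subtype]; exact Subgroup.mem_subgroupOf.2 ht), rfl⟩
    have h2 : M.map L.subtype < L := by
      refine lt_of_le_of_ne (Subgroup.map_subtype_le M) (fun e => hM ?_)
      rw [eq_top_iff]
      intro x _
      have h3 : (x : G) ∈ M.map L.subtype := by
        rw [e]
        exact x.2
      obtain ⟨y, hy, e'⟩ := h3
      have : y = x := Subtype.ext e'
      rwa [← this]
    exact NPC.of_mulEquiv (M.equivMapOfInjective _ L.subtype_injective).symm (hLmin _ h1 h2)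
  obtain ⟨K, hPAP⟩ := exists_PAP RL hRLp hq3 (T.subtype hTL) hco
  have hrange : ∀ s, ιG s ∈ L := fun s => hTL (hT ▸ ⟨s, rfl⟩)
  refine ⟨L, inferInstance, inferInstance,
    (ιG.codRestrict L hrange).comp (Subgroup.inclusion (le_of_eq hQN.symm)), T.subtype hTL, RL, K,
    SubReal.of_subsystem hsub _ (hsr.codRestrict L hrange), ?_, hLn, hco, hPAP, hRLc⟩
  rw [Sylow.coe_subtype]
  ext x
  rw [Subgroup.mem_subgroupOf, hT]
  constructor
  · rintro ⟨s, hs⟩
    exact ⟨⟨s, normalizerIn_le S Q s.2⟩, Subtype.ext hs⟩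
  · rintro ⟨s, hs⟩
    exact ⟨Subgroup.inclusion (le_of_eq hQN.symm) s, congrArg Subtype.val hs⟩

theorem IsPFunctor.map_eq' {p : ℕ} {W : ∀ (Ω : Type u) [Group Ω], Subgroup Ω → Subgroup Ω}
    (hW : IsPFunctor p W) {Ω G : Type u} [Group Ω] [Group G] {S : Subgroup Ω}
    (j : S →* G) (hj : Function.Injective j) {D : Subgroup Ω} [Finite D] (hD : D ≤ S) :
    W G ((D.subgroupOf S).map j) = ((W Ω D).subgroupOf S).map j := by
  let e : D ≃* (D.subgroupOf S).map j :=
    (Subgroup.subgroupOfEquivOfLe hD).symm.trans ((D.subgroupOf S).equivMapOfInjective j hj)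
  have he : ∀ x : D, ((e x : (D.subgroupOf S).map j) : G) = j ⟨x, hD x.2⟩ := fun x => rfl
  have : Finite ((D.subgroupOf S).map j) := Finite.of_equiv _ e.toEquiv
  ext y
  constructor
  · intro hy
    have hyr : y ∈ (D.subgroupOf S).map j := hW.le _ _ hy
    have h1 := hW.equiv G Ω _ D e.symm ⟨y, hyr⟩ hy
    refine ⟨⟨e.symm ⟨y, hyr⟩, hD (Subtype.prop _)⟩, Subgroup.mem_subgroupOf.2 h1, ?_⟩
    rw [← he, e.apply_symm_apply]
  · rintro ⟨x, hx, rfl⟩
    have hxW : (x : Ω) ∈ W Ω D := Subgroup.mem_subgroupOf.1 hx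
    exact hW.equiv Ω G D _ e ⟨x, hW.le _ _ hxW⟩ hxW

/-- Glauberman-Thompson relative to a strongly closed subgroup, `PAut` form. -/
theorem nil_of_pAut_centerThompsonA_stronglyClosed {Ω : Type u} [Group Ω] {S : Subgroup Ω}
    [Finite S] {p : ℕ} [Fact p.Prime] (hp : p ≠ 2) (hS : IsPGroup p S) {F : FusionSystem S}
    (hF : F.IsSaturated p) {D : Subgroup Ω} (hD : F.StronglyClosed D)
    (h : PAut F p (centerThompsonAOf D)) : Nil F p := by
  by_contra hnil
  obtain ⟨H, _, _, j, T, R, K, hsr, hT, hHn, -, hPAP, hC⟩ :=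
    exists_minimal_obstruction hp hS hF hnil
  have hW := isPFunctor_centerThompsonA.{u} p
  have : Finite D := finite_of_le hD.1
  have hXS : centerThompsonAOf D ≤ S := (hW.le Ω D).trans hD.1
  have hXn : S ≤ Subgroup.normalizer (centerThompsonAOf D : Set Ω) :=
    (StronglyClosed.le_normalizer hD).trans (hW.normalizer_le D)
  have hnpc := hsr.npc_normalizer T hT hXS hXn h
  have hsc : SC ((D.subgroupOf S).map j) (T : Subgroup H) := hT ▸ hsr.sc hD
  have hn := ZE_normalD hp (Or.inl rfl) T (hPAP.pStab hp _) hsc hPAP.Hn hPAP.Hp hC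
  rw [← centerThompsonAOf_eq, hW.map_eq' j hsr.1 hD.1] at hn
  exact hHn (NPC.of_eq_top (Subgroup.normalizer_eq_top_iff.2 hn) hnpc)

end Cfsg.Agent.Lib.Helper89
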