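import Cfsg.Agent.Lib.Helper87.Saturated
import Cfsg.Agent.Lib.Helper87.Centric
import Cfsg.Agent.Lib.Helper51.PCore
import Cfsg.Agent.Lib.Helper89.FusionAux

set_option autoImplicit false

namespace Cfsg.Agent.Lib.Helper89

open Cfsg Cfsg.FusionSystem Cfsg.Agent.Lib.Helper87

/-- Transport of `O_p` of a subgroup along an isomorphism of the ambient groups. -/
theorem map_pCore_subgroup {A B : Type*} [Group A] [Group B] (p : ℕ) (e : A ≃* B) (H : Subgroup A)
    (K : Subgroup B) (hHK : H.map e.toMonoidHom = K) :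
    ((pCore p H).map H.subtype).map e.toMonoidHom = (pCore p K).map K.subtype := by
  subst hHK
  have h1 : (pCore p H).map (e.subgroupMap H).toMonoidHom = pCore p (H.map e.toMonoidHom) :=
    Helper51.map_pCore p (e.subgroupMap H)
  rw [← h1]
  ext y
  constructor
  · rintro ⟨_, ⟨x, hx, rfl⟩, rfl⟩
    exact ⟨e.subgroupMap H x, ⟨x, hx, rfl⟩, rfl⟩
  · rintro ⟨_, ⟨x, hx, rfl⟩, rfl⟩
    exact ⟨x, ⟨x, hx, rfl⟩, rfl⟩

variable {Ω : Type*} [Group Ω] {S : Subgroup Ω}

theorem map_autGroup_of_iso {F : FusionSystem S} {P Q : Subgroup Ω} {f : Ω → Ω} (h : Iso F P Q f) :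
    (F.autGroup P).map (MulAut.congr h.toMulEquiv).toMonoidHom = F.autGroup Q := by
  apply le_antisymm
  · rintro _ ⟨β, hβ, rfl⟩
    exact h.congr_mem_autGroup hβ
  · intro γ hγ
    refine ⟨(MulAut.congr h.toMulEquiv).symm γ, ?_, (MulAut.congr h.toMulEquiv).apply_symm_apply γ⟩
    rw [SetLike.mem_coe, mem_autGroup_iff F h.le]
    rw [mem_autGroup_iff F h.le'] at hγ
    obtain ⟨g, hg, hgf, hfg⟩ := h.symm
    refine ((h.1.comp hγ (fun y hy => h.map_mem hy)).comp hg.1
      (fun y hy => autFun_mem γ (h.map_mem hy))).congr (fun y hy => ?_)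
    show g (autFun γ (f y)) = _
    rw [autFun_apply _ hy, autFun_apply γ (h.map_mem hy)]
    have h1 : ((MulAut.congr h.toMulEquiv).symm γ) ⟨y, hy⟩
        = h.toMulEquiv.symm (γ (h.toMulEquiv ⟨y, hy⟩)) := rfl
    rw [h1]
    have h2 : ∀ z : Q, g z = (h.toMulEquiv.symm z : P) := by
      intro z
      have h3 := h.apply_toMulEquiv_symm z
      conv_lhs => rw [← h3]
      exact hgf _ (h.toMulEquiv.symm z).2
    rw [h2]
    rfl

theorem map_pCore_autGroup_of_iso {F : FusionSystem S} {P Q : Subgroup Ω} {f : Ω → Ω}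
    (h : Iso F P Q f) (p : ℕ) :
    ((pCore p (F.autGroup P)).map (F.autGroup P).subtype).map
      (MulAut.congr h.toMulEquiv).toMonoidHom = (pCore p (F.autGroup Q)).map (F.autGroup Q).subtype :=
  map_pCore_subgroup p _ _ _ (map_autGroup_of_iso h)

theorem map_inn {P Q : Type*} [Group P] [Group Q] (e : P ≃* Q) :
    (Inn P).map (MulAut.congr e).toMonoidHom = Inn Q := by
  ext γ
  constructor
  · rintro ⟨_, ⟨x, rfl⟩, rfl⟩
    refine ⟨e x, ?_⟩
    ext y
    simp [MulAut.congr]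
  · rintro ⟨y, rfl⟩
    refine ⟨_, ⟨e.symm y, rfl⟩, ?_⟩
    ext z
    simp [MulAut.congr]

theorem isRadical_of_iso {F : FusionSystem S} {P Q : Subgroup Ω} {f : Ω → Ω}
    (h : Iso F P Q f) {p : ℕ} (hP : F.IsRadical p P) : F.IsRadical p Q := by
  refine ⟨h.le', ?_⟩
  rw [← map_pCore_autGroup_of_iso h p, hP.2, map_inn]

theorem isRadical_of_isConj {F : FusionSystem S} {P Q : Subgroup Ω} (h : F.IsConj P Q) {p : ℕ}
    (hP : F.IsRadical p P) : F.IsRadical p Q := by
  obtain ⟨f, hf⟩ := (isConj_iff F P Q).1 h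
  exact isRadical_of_iso hf hP

end Cfsg.Agent.Lib.Helper89
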