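import Cfsg.Agent.Lib.Helper89.NilZJ
import Cfsg.Agent.Lib.Helper15.ZJ2

set_option autoImplicit false

universe u

namespace Cfsg.Agent.Lib.Helper89

open Cfsg Cfsg.FusionSystem Cfsg.Agent.Lib.Helper87 Cfsg.Agent.Lib.Helper77
open Cfsg.Agent.Lib.Helper15.ZJ

variable {Ω : Type*} [Group Ω] {S : Subgroup Ω} {H : Type*} [Group H]

/-- `j` embeds `S` into `H`, and every `H`-conjugation between subgroups of `S` is a map of `F`. -/
def SubReal (F : FusionSystem S) (j : S →* H) : Prop :=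
  Function.Injective j ∧ ∀ (P : Subgroup Ω) (f : Ω → Ω), P ≤ S → (∀ x ∈ P, f x ∈ S) →
    (∃ g : H, ∀ x ∈ P, tf j (f x) = g * tf j x * g⁻¹) → Mor F P f

theorem subReal_of_realized {F : FusionSystem S} {j : S →* H} (h : F.IsRealizedBy j) :
    SubReal F j :=
  ⟨h.1, fun P f hP hf hg => (mor_realized_iff h P f).2 ⟨hP, hf, hg⟩⟩

theorem SubReal.codRestrict {F : FusionSystem S} {j : S →* H} (h : SubReal F j) (L : Subgroup H)
    (hL : ∀ s, j s ∈ L) : SubReal F (j.codRestrict L hL) := by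
  refine ⟨fun a b e => h.1 (congrArg Subtype.val e), fun P f hP hf hg => ?_⟩
  obtain ⟨g, hg⟩ := hg
  refine h.2 P f hP hf ⟨g, fun x hx => ?_⟩
  have h1 := congrArg Subtype.val (hg x hx)
  rw [tf_apply _ (hf x hx), tf_apply _ (hP hx)] at h1
  rw [tf_apply _ (hf x hx), tf_apply _ (hP hx)]
  exact h1

theorem SubReal.of_subsystem {S₁ : Subgroup Ω} {N : FusionSystem S₁} {F : FusionSystem S}
    (hsub : N.IsSubsystemOf F) (hle : S ≤ S₁) {j : S₁ →* H} (h : SubReal N j) :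
    SubReal F (j.comp (Subgroup.inclusion hle)) := by
  refine ⟨h.1.comp (Subgroup.inclusion_injective hle), fun P f hP hf hg => ?_⟩
  obtain ⟨g, hg⟩ := hg
  refine Mor.of_subsystem hsub (h.2 P f (hP.trans hle) (fun x hx => hle (hf x hx))
    ⟨g, fun x hx => ?_⟩)
  have h1 := hg x hx
  rw [tf_apply _ (hf x hx), tf_apply _ (hP hx)] at h1
  rw [tf_apply _ (hle (hf x hx)), tf_apply _ (hle (hP hx))]
  exact h1

theorem map_pre (j : S →* H) {R : Subgroup H} (hR : R ≤ j.range) :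
    ((pre j R).subgroupOf S).map j = R := by
  ext y
  rw [mem_map_subgroupOf_iff]
  constructor
  · rintro ⟨x, hx, -, rfl⟩
    exact ((mem_pre j R x).1 hx).2
  · intro hy
    refine ⟨tinv j y, (mem_pre j R _).2 ⟨tinv_mem j y, ?_⟩, tinv_mem j y, tf_tinv j (hR hy)⟩
    rw [tf_tinv j (hR hy)]
    exact hy

theorem pre_map {j : S →* H} (hj : Function.Injective j) {P : Subgroup Ω} (hP : P ≤ S) :
    pre j ((P.subgroupOf S).map j) = P := by
  ext x
  rw [mem_pre, mem_map_subgroupOf_iff]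
  constructor
  · rintro ⟨hx, x', hx', hx'S, e⟩
    rw [← tf_inj hj hx'S hx e]
    exact hx'
  · intro hx
    exact ⟨hP hx, x, hx, hP hx, rfl⟩

theorem map_le_range (j : S →* H) (P : Subgroup Ω) : (P.subgroupOf S).map j ≤ j.range := by
  rintro _ ⟨x, -, rfl⟩
  exact ⟨x, rfl⟩

theorem tf_mem_map (j : S →* H) {P : Subgroup Ω} (hP : P ≤ S) {x : Ω} (hx : x ∈ P) :
    tf j x ∈ (P.subgroupOf S).map j :=
  (mem_map_subgroupOf_iff j P _).2 ⟨x, hx, hP hx, rfl⟩

theorem mem_of_tf_mem_map {j : S →* H} (hj : Function.Injective j) {P : Subgroup Ω} {x : Ω}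
    (hxS : x ∈ S) (hx : tf j x ∈ (P.subgroupOf S).map j) : x ∈ P := by
  obtain ⟨x', hx', hx'S, e⟩ := (mem_map_subgroupOf_iff j P _).1 hx
  rw [← tf_inj hj hx'S hxS e]
  exact hx'

/-- Elements of `H` stabilizing the image of `P` induce elements of `Aut_F(P)`. -/
theorem SubReal.exists_aut [Finite S] {F : FusionSystem S} {j : S →* H} (h : SubReal F j)
    {P : Subgroup Ω} (hP : P ≤ S) {g : H}
    (hg : ∀ y ∈ (P.subgroupOf S).map j, g * y * g⁻¹ ∈ (P.subgroupOf S).map j) :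
    ∃ α ∈ F.autGroup P, ∀ x ∈ P, tf j (autFun α x) = g * tf j x * g⁻¹ := by
  have : Finite P := finite_of_le hP
  set f : Ω → Ω := fun x => tinv j (g * tf j x * g⁻¹) with hf
  have hftf : ∀ x ∈ P, tf j (f x) = g * tf j x * g⁻¹ := fun x hx =>
    tf_tinv j (map_le_range j P (hg _ (tf_mem_map j hP hx)))
  have hfm : Mor F P f := h.2 P f hP (fun x _ => tinv_mem j _) ⟨g, hftf⟩
  have hfP : ∀ x ∈ P, f x ∈ P := fun x hx =>
    mem_of_tf_mem_map h.1 (tinv_mem j _) (by rw [hftf x hx]; exact hg _ (tf_mem_map j hP hx))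
  obtain ⟨α, hα, e⟩ := (hfm.iso_self hfP).exists_aut
  exact ⟨α, hα, fun x hx => by rw [autFun_apply α hx, e, hftf x hx]⟩

/-- Strongly closed subgroups stay strongly closed in `H`. -/
theorem SubReal.sc {F : FusionSystem S} {j : S →* H} (h : SubReal F j) {D : Subgroup Ω}
    (hD : F.StronglyClosed D) : SC ((D.subgroupOf S).map j) j.range := by
  refine ⟨map_le_range j D, fun d' hd' g hg => ?_⟩
  obtain ⟨d, hd, hdS, rfl⟩ := (mem_map_subgroupOf_iff j D _).1 hd'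
  set P : Subgroup Ω := D ⊓ pre j (j.range.comap (MulAut.conj g).toMonoidHom) with hP
  have hPS : P ≤ S := inf_le_left.trans hD.1
  have hPr : ∀ x ∈ P, g * tf j x * g⁻¹ ∈ j.range := fun x hx =>
    ((mem_pre j _ x).1 (Subgroup.mem_inf.1 hx).2).2
  set f : Ω → Ω := fun x => tinv j (g * tf j x * g⁻¹) with hf
  have hftf : ∀ x ∈ P, tf j (f x) = g * tf j x * g⁻¹ := fun x hx => tf_tinv j (hPr x hx)
  have hfm : Mor F P f := h.2 P f hPS (fun x _ => tinv_mem j _) ⟨g, hftf⟩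
  have hdP : d ∈ P := Subgroup.mem_inf.2 ⟨hd, (mem_pre j _ d).2 ⟨hdS, hg⟩⟩
  have h1 : f d ∈ D := StronglyClosed.map_mem hD hfm hdP hd
  rw [← hftf d hdP]
  exact tf_mem_map j hD.1 h1

theorem SubReal.npc_normalizer {H : Type u} [Group H] [Finite H] [Finite S] {p : ℕ} [Fact p.Prime]
    {F : FusionSystem S} {j : S →* H} (h : SubReal F j) (T : Sylow p H)
    (hT : (T : Subgroup H) = j.range) {X : Subgroup Ω} (hXS : X ≤ S)
    (hXn : S ≤ Subgroup.normalizer (X : Set Ω)) (hX : PAut F p X) :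
    NPC p (Subgroup.normalizer (((X.subgroupOf S).map j : Subgroup H) : Set H)) := by
  set XG : Subgroup H := (X.subgroupOf S).map j with hXG
  have hXGr : XG ≤ j.range := map_le_range j X
  have hTH : (T : Subgroup H) ≤ Subgroup.normalizer (XG : Set H) := by
    rw [hT]
    apply le_normalizer_of_conj_mem
    rintro _ ⟨s, rfl⟩ y hy
    obtain ⟨x, hx, hxS, rfl⟩ := (mem_map_subgroupOf_iff j X y).1 hy
    rw [← tf_coe j s, ← tf_conj j s.2 hxS]
    exact (mem_map_subgroupOf_iff j X _).2 ⟨_, (Subgroup.mem_normalizer_iff.1 (hXn s.2) x).1 hx,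
      S.mul_mem (S.mul_mem s.2 hxS) (S.inv_mem s.2), rfl⟩
  apply npc_subgroup_of_frob _ T hTH
  intro Q hQ g hgH hgQ hgo
  set P₁ : Subgroup H := Q ⊔ XG with hP₁
  have hP₁r : P₁ ≤ j.range := sup_le (hT ▸ hQ) hXGr
  have hgP₁ : ∀ y ∈ P₁, g * y * g⁻¹ ∈ P₁ := by
    intro y hy
    have h1 : cj g P₁ = P₁ := by
      rw [hP₁, cj_sup, cj_eq_self_of_mem_normalizer hgQ, cj_eq_self_of_mem_normalizer hgH]
    rw [← h1]
    exact conj_mem_cj hy
  set P : Subgroup Ω := pre j P₁ with hP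
  have hPS : P ≤ S := pre_le j P₁
  have hmap : (P.subgroupOf S).map j = P₁ := map_pre j hP₁r
  obtain ⟨α, hα, hαg⟩ := h.exists_aut hPS (g := g) (by rw [hmap]; exact hgP₁)
  have hXP : X ≤ P := fun x hx =>
    (mem_pre j P₁ x).2 ⟨hXS hx, (le_sup_right : XG ≤ P₁) (tf_mem_map j hXS hx)⟩
  obtain ⟨k, hk⟩ := hX P hXP (fun x hx => ⟨hPS hx, hXn (hPS hx)⟩) α hα (by
    intro x hx
    rw [← autFun_coe]
    apply mem_of_tf_mem_map h.1 (hPS (autFun_mem α x.2))
    rw [hαg x x.2]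
    have : cj g XG = XG := cj_eq_self_of_mem_normalizer hgH
    rw [← hXG, ← this]
    exact conj_mem_cj (tf_mem_map j hXS hx))
  have hcent : ∀ y ∈ P₁, g ^ p ^ k * y * (g ^ p ^ k)⁻¹ = y := by
    intro y hy
    have hx : tinv j y ∈ P :=
      (mem_pre j P₁ _).2 ⟨tinv_mem j _, by rw [tf_tinv j (hP₁r hy)]; exact hy⟩
    have h1 := tf_autFun_pow α g hαg (p ^ k) _ hx
    rw [hk, autFun_apply _ hx, tf_tinv j (hP₁r hy)] at h1
    rw [← h1]
    exact tf_tinv j (hP₁r hy)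
  obtain ⟨m, hm⟩ := exists_pow_eq_self_of_coprime (x := g) (n := p ^ k)
    (Nat.Coprime.pow_left k hgo.symm)
  rw [Subgroup.mem_centralizer_iff]
  intro q hq
  have h2 : Commute (g ^ p ^ k) q := by
    have := hcent q ((le_sup_left : Q ≤ P₁) hq)
    exact mul_inv_eq_iff_eq_mul.1 this
  have h3 : Commute ((g ^ p ^ k) ^ m) q := h2.pow_left m
  rw [hm] at h3
  exact h3.eq.symm

end Cfsg.Agent.Lib.Helper89
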