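import Mathlib
import Cfsg.Agent.Lib.Helper6.SLCard

/-!
# The upper unitriangular subgroup of `SL_n(K)`, `K` a finite field

Definition, order, and the fact that it is a Sylow `p`-subgroup.
-/

set_option autoImplicit false

namespace Cfsg.Agent.Lib.Helper89.UT

open Matrix Matrix.SpecialLinearGroup

variable {n : ℕ} {K : Type*} [Field K]

theorem isUT_mul {A B : Matrix (Fin n) (Fin n) K}
    (hA : ∀ a b : Fin n, b ≤ a → A a b = (1 : Matrix (Fin n) (Fin n) K) a b)
    (hB : ∀ a b : Fin n, b ≤ a → B a b = (1 : Matrix (Fin n) (Fin n) K) a b) :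
    ∀ a b : Fin n, b ≤ a → (A * B) a b = (1 : Matrix (Fin n) (Fin n) K) a b := by
  intro a b hab
  rw [Matrix.mul_apply, Finset.sum_eq_single a]
  · rw [hA a a le_rfl, Matrix.one_apply_eq, one_mul, hB a b hab]
  · intro c _ hca
    rcases lt_or_gt_of_ne hca with h | h
    · rw [hA a c h.le, Matrix.one_apply_ne (ne_of_gt h), zero_mul]
    · rw [hB c b (hab.trans h.le), Matrix.one_apply_ne (ne_of_gt (lt_of_le_of_lt hab h)), mul_zero]
  · intro h
    exact absurd (Finset.mem_univ a) h

/-- The group of upper unitriangular matrices. -/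
def U (n : ℕ) (K : Type*) [Field K] [Finite K] : Subgroup (SpecialLinearGroup (Fin n) K) where
  carrier := {A | ∀ a b : Fin n, b ≤ a → A.1 a b = (1 : Matrix (Fin n) (Fin n) K) a b}
  one_mem' := fun _ _ _ => rfl
  mul_mem' := fun {A B} hA hB => by
    have := isUT_mul hA hB
    exact this
  inv_mem' := fun {A} hA => by
    have hfin : Finite (SpecialLinearGroup (Fin n) K) := Subtype.finite
    have hpow : ∀ m : ℕ, ∀ a b : Fin n, b ≤ a →
        (A ^ m).1 a b = (1 : Matrix (Fin n) (Fin n) K) a b := by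
      intro m
      induction m with
      | zero => intro a b _; rw [pow_zero]; rfl
      | succ m ih =>
        rw [pow_succ]
        exact isUT_mul ih hA
    have h1 : A⁻¹ = A ^ (orderOf A - 1) := by
      rw [inv_eq_iff_mul_eq_one, ← pow_succ', Nat.sub_add_cancel (orderOf_pos A), pow_orderOf_eq_one]
    show ∀ a b : Fin n, b ≤ a → (A⁻¹).1 a b = (1 : Matrix (Fin n) (Fin n) K) a b
    rw [h1]
    exact hpow _

variable [Finite K]

theorem mem_U_iff (A : SpecialLinearGroup (Fin n) K) :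
    A ∈ U n K ↔ ∀ a b : Fin n, b ≤ a → A.1 a b = (1 : Matrix (Fin n) (Fin n) K) a b := Iff.rfl

theorem U_apply_lt {A : SpecialLinearGroup (Fin n) K} (hA : A ∈ U n K) {a b : Fin n} (h : b < a) :
    A.1 a b = 0 := by
  rw [hA a b h.le, Matrix.one_apply_ne (ne_of_gt h)]

theorem U_apply_self {A : SpecialLinearGroup (Fin n) K} (hA : A ∈ U n K) (a : Fin n) :
    A.1 a a = 1 := by
  rw [hA a a le_rfl, Matrix.one_apply_eq]

theorem transvection_mem_U {a b : Fin n} (h : a < b) (c : K) :
    transvection (ne_of_lt h) c ∈ U n K := by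
  intro x y hxy
  rw [transvection_coe, Matrix.add_apply, Matrix.single_apply, if_neg, add_zero]
  rintro ⟨rfl, rfl⟩
  exact absurd h (not_lt.2 hxy)

/-- Coordinates on `U`. -/
noncomputable def utEquiv : U n K ≃ ((b : Fin n) → Fin b → K) where
  toFun u := fun b a => u.1.1 ⟨a, a.2.trans b.2⟩ b
  invFun f := ⟨⟨Matrix.of fun a b : Fin n => if h : a < b then f b ⟨a, h⟩ else if a = b then 1 else 0, by
      rw [Matrix.det_of_isUpperTriangular]
      · simp
      · intro a b hab
        have h1 : ¬ a < b := not_lt.2 (le_of_lt hab)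
        have h2 : a ≠ b := ne_of_gt hab
        simp [h1, h2]⟩, by
      intro a b hab
      have h1 : ¬ a < b := not_lt.2 hab
      simp [h1, Matrix.one_apply]⟩
  left_inv u := by
    apply Subtype.ext
    apply Subtype.ext
    ext a b
    by_cases h : a < b
    · simp [h]
    · have := u.2 a b (not_lt.1 h)
      simp [h, this, Matrix.one_apply]
  right_inv f := by
    funext b a
    have h : (⟨a, a.2.trans b.2⟩ : Fin n) < b := a.2
    simp [h]

theorem card_U : Nat.card (U n K) = ∏ i : Fin n, Nat.card K ^ (i : ℕ) := by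
  rw [Nat.card_congr utEquiv, Nat.card_pi]
  refine Finset.prod_congr rfl (fun i _ => ?_)
  rw [Nat.card_fun, Nat.card_eq_fintype_card (α := Fin i), Fintype.card_fin]

instance finite_SL : Finite (SpecialLinearGroup (Fin n) K) := Subtype.finite

theorem exists_card_eq (p : ℕ) [Fact p.Prime] [CharP K p] : ∃ f : ℕ, 0 < f ∧ Nat.card K = p ^ f := by
  have := Fintype.ofFinite K
  obtain ⟨f, -, hf⟩ := FiniteField.card K p
  exact ⟨f, f.pos, by rw [Nat.card_eq_fintype_card, hf]⟩

theorem isPGroup_U (p : ℕ) [Fact p.Prime] [CharP K p] : IsPGroup p (U n K) := by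
  obtain ⟨f, -, hf⟩ := exists_card_eq (K := K) p
  refine IsPGroup.of_card (n := ∑ i : Fin n, f * (i : ℕ)) ?_
  rw [card_U, hf, ← Finset.prod_pow_eq_pow_sum]
  exact Finset.prod_congr rfl (fun i _ => by rw [pow_mul])

theorem not_dvd_index_U (p : ℕ) [Fact p.Prime] [CharP K p] (hn : 1 ≤ n) :
    ¬ p ∣ (U n K).index := by
  have := Fintype.ofFinite K
  obtain ⟨f, hf0, hf⟩ := exists_card_eq (K := K) p
  have hq : Fintype.card K = Nat.card K := (Nat.card_eq_fintype_card).symm
  have h1 := Cfsg.Agent.Lib.Helper6.card_SL_field (F := K) n hn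
  rw [hq, ← (U n K).card_mul_index, card_U] at h1
  have h2 : ∏ i : Fin n, (Nat.card K ^ n - Nat.card K ^ (i : ℕ)) =
      (∏ i : Fin n, Nat.card K ^ (i : ℕ)) * ∏ i : Fin n, (Nat.card K ^ (n - (i : ℕ)) - 1) := by
    rw [← Finset.prod_mul_distrib]
    refine Finset.prod_congr rfl (fun i _ => ?_)
    rw [Nat.mul_sub, mul_one, ← pow_add, Nat.add_sub_cancel' i.2.le]
  rw [h2] at h1
  have hpos : 0 < ∏ i : Fin n, Nat.card K ^ (i : ℕ) :=
    Finset.prod_pos (fun i _ => pow_pos Nat.card_pos _)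
  have h3 : (Nat.card K - 1) * (U n K).index = ∏ i : Fin n, (Nat.card K ^ (n - (i : ℕ)) - 1) := by
    apply Nat.eq_of_mul_eq_mul_left hpos
    rw [← h1]
    ring
  intro hdvd
  have h4 : p ∣ ∏ i : Fin n, (Nat.card K ^ (n - (i : ℕ)) - 1) := by
    rw [← h3]
    exact Dvd.dvd.mul_left hdvd _
  obtain ⟨i, -, hi⟩ := (Nat.Prime.prime (Fact.out : p.Prime)).exists_mem_finset_dvd h4
  have h5 : p ∣ Nat.card K ^ (n - (i : ℕ)) := by
    rw [hf]
    refine dvd_pow (dvd_pow_self p hf0.ne') ?_
    have := i.2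
    omega
  have h6 : 1 ≤ Nat.card K ^ (n - (i : ℕ)) := Nat.one_le_pow _ _ Nat.card_pos
  have h7 : p ∣ 1 := by
    have := (Nat.dvd_sub_iff_right h6 h5).1 hi
    exact this
  exact (Fact.out : p.Prime).one_lt.ne' (Nat.dvd_one.1 h7)

/-- `U` as a Sylow `p`-subgroup of `SL_n(K)`. -/
noncomputable def sylU (p : ℕ) [Fact p.Prime] [CharP K p] (hn : 1 ≤ n) :
    Sylow p (SpecialLinearGroup (Fin n) K) :=
  (isPGroup_U p).toSylow (not_dvd_index_U p hn)

theorem coe_sylU (p : ℕ) [Fact p.Prime] [CharP K p] (hn : 1 ≤ n) :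
    ((sylU (K := K) p hn : Sylow p (SpecialLinearGroup (Fin n) K)) :
      Subgroup (SpecialLinearGroup (Fin n) K)) = U n K := rfl

end Cfsg.Agent.Lib.Helper89.UT
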